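import Cfsg.Agent.SuzFacts.Defs

/-!
Checks at the prime seven.
-/

set_option autoImplicit false
set_option maxRecDepth 100000
set_option maxHeartbeats 0

namespace Cfsg.Agent.SuzFacts

open Cfsg.Agent.Compute Cfsg.Agent.StemCert Cfsg.Agent.OutTab

theorem seven_letters : allB (fun s => Nat.blt s SuzOut.Data.k) Data.normWord = true ∧
    (∀ σ : alternatingGroup (Fin 4), allB (fun s => Nat.blt s SuzOut.Data.k) (altWord σ) = true) ∧
    eqOn 11 SuzOut.Data.codes SuzOut.Data.mainBase (Data.normWord ++ [SuzOut.Data.sLetter])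
      (List.replicate 3 SuzOut.Data.sLetter ++ Data.normWord) = true := by
  refine ⟨?_, ?_, ?_⟩ <;> decide +kernel

theorem alt_codes : ∀ c : Fin 16, (∀ σ : alternatingGroup (Fin 4), altCode σ ≠ c.val) →
    Data.altWords.getD c.val [] = [] := by decide +kernel

theorem alt_mul : ∀ σ τ : alternatingGroup (Fin 4),
    eqOn 11 SuzOut.Data.codes SuzOut.Data.mainBase (altWord (σ * τ)) (altWord σ ++ altWord τ) = true := by
  decide +kernel

theorem alt_comm : ∀ σ : alternatingGroup (Fin 4),
    eqOn 11 SuzOut.Data.codes SuzOut.Data.mainBase (altWord σ ++ [SuzOut.Data.sLetter])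
      (SuzOut.Data.sLetter :: altWord σ) = true := by
  decide +kernel

theorem seven_ne : ∀ i : Fin 7, ∀ σ : alternatingGroup (Fin 4),
    eqOn 11 SuzOut.Data.codes SuzOut.Data.mainBase (sevenWord i.val σ) [] = true → i = 0 ∧ σ = 1 := by
  decide +kernel

theorem seven_kinds : allBelow SuzOut.Data.numEls sevenKindB = true := by decide +kernel

end Cfsg.Agent.SuzFacts
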