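import Mathlib

/-!
Powers with residues as exponents.
-/

set_option autoImplicit false

namespace Cfsg.Agent.SuzFacts

variable {G : Type*} [Group G]

/-- The powers of an element whose `n`th power is trivial. -/
def powHom {n : ℕ} [NeZero n] (b : G) (hb : b ^ n = 1) : Multiplicative (ZMod n) →* G :=
  MonoidHom.mk' (fun x => b ^ (Multiplicative.toAdd x).val) fun x y => by
    rw [← pow_add, toAdd_mul, ZMod.val_add]
    exact (pow_eq_pow_mod _ hb).symm

theorem powHom_apply {n : ℕ} [NeZero n] (b : G) (hb : b ^ n = 1) (x : Multiplicative (ZMod n)) :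
    powHom b hb x = b ^ (Multiplicative.toAdd x).val := rfl

end Cfsg.Agent.SuzFacts
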