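import Mathlib

/-!
Carrying a Sylow subgroup to a standard one of an isomorphic group.
-/

set_option autoImplicit false

namespace Cfsg.Agent.SuzFacts

open Subgroup

variable {G H : Type*} [Group G] [Group H]

theorem exists_equiv_map [Finite H] {p : ℕ} [Fact p.Prime] (e : G ≃* H) (P : Sylow p G) (P0 : Sylow p H) :
    ∃ φ : G ≃* H, (P : Subgroup G).map φ.toMonoidHom = (P0 : Subgroup H) := by
  have : Finite G := Finite.of_equiv H e.symm.toEquiv
  let R : Sylow p H := P.mapSurjective (f := e.toMonoidHom) e.surjective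
  obtain ⟨c, hc⟩ := MulAction.exists_smul_eq H R P0
  refine ⟨e.trans (MulAut.conj c), ?_⟩
  rw [← hc, Sylow.coe_subgroup_smul]
  show (P : Subgroup G).map ((MulAut.conj c).toMonoidHom.comp e.toMonoidHom) = _
  rw [← Subgroup.map_map, Subgroup.pointwise_smul_def]
  rfl

theorem map_centralizer (φ : G ≃* H) (K : Subgroup G) :
    (centralizer (K : Set G)).map φ.toMonoidHom = centralizer ((K.map φ.toMonoidHom : Subgroup H) : Set H) := by
  ext y
  constructor
  · rintro ⟨x, hx, rfl⟩ _ ⟨k, hk, rfl⟩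
    show φ k * φ x = φ x * φ k
    rw [← map_mul, ← map_mul, mem_centralizer_iff.mp hx k hk]
  · intro hy
    refine ⟨φ.symm y, fun k hk => φ.injective ?_, φ.apply_symm_apply y⟩
    rw [map_mul, map_mul, φ.apply_symm_apply]
    exact hy (φ k) ⟨k, hk, rfl⟩

theorem card_normalizer_map (φ : G ≃* H) (K : Subgroup G) :
    Nat.card (normalizer (K : Set G)) = Nat.card (normalizer ((K.map φ.toMonoidHom : Subgroup H) : Set H)) := by
  rw [← map_equiv_normalizer_eq K φ]
  exact Nat.card_congr ((normalizer (K : Set G)).equivMapOfInjective φ.toMonoidHom φ.injective).toEquiv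

theorem quotient_normalizer (φ : G ≃* H) (K : Subgroup G) (K' : Subgroup H) (h : K.map φ.toMonoidHom = K') :
    Nonempty (↥(normalizer (K : Set G)) ⧸ K.subgroupOf (normalizer (K : Set G)) ≃*
      ↥(normalizer (K' : Set H)) ⧸ K'.subgroupOf (normalizer (K' : Set H))) := by
  subst h
  have hN := map_equiv_normalizer_eq K φ
  let ψ : ↥(normalizer (K : Set G)) ≃* ↥(normalizer ((K.map φ.toMonoidHom : Subgroup H) : Set H)) :=
    ((normalizer (K : Set G)).equivMapOfInjective φ.toMonoidHom φ.injective).trans (MulEquiv.subgroupCongr hN)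
  refine ⟨QuotientGroup.congr _ _ ψ ?_⟩
  ext ⟨y, hy⟩
  constructor
  · rintro ⟨x, hx, hxy⟩
    exact ⟨(x : G), hx, congrArg Subtype.val hxy⟩
  · rintro ⟨k, hk, hky⟩
    exact ⟨⟨k, le_normalizer hk⟩, hk, Subtype.ext hky⟩

end Cfsg.Agent.SuzFacts
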