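import Cfsg.Agent.SuzOut.Out
import Cfsg.Agent.SuzFacts.CheckSeven
import Cfsg.Agent.SuzFacts.Transport
import Cfsg.Agent.SuzFacts.Cyclic

/-!
The centraliser and normaliser of a Sylow 7-subgroup of the Suzuki group.
-/

set_option autoImplicit false
set_option maxRecDepth 100000

namespace Cfsg.Agent.SuzFacts

open Cfsg Cfsg.Agent.Compute Cfsg.Agent.StemCert Cfsg.Agent.OutTab Subgroup
open scoped Classical

/-- The element of order seven. -/
noncomputable def el7 : Spor.Suz := SuzOut.gen SuzOut.Data.sLetter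

theorem el7_order : orderOf el7 = 7 := SuzOut.orderS

theorem el7_pow : el7 ^ 7 = 1 := el7_order ▸ pow_orderOf_eq_one el7

theorem sl_lt : SuzOut.Data.sLetter < SuzOut.Data.k := SuzOut.cent_checks.slk

theorem lt_of_allB {k : ℕ} {u : List ℕ} (h : allB (fun s => Nat.blt s k) u = true) : ∀ s ∈ u, s < k :=
  fun s hs => Nat.blt_eq.mp (allB_spec h s hs)

theorem rep_lt (i : ℕ) : ∀ s ∈ List.replicate i SuzOut.Data.sLetter, s < SuzOut.Data.k := fun _ hs =>
  (List.eq_of_mem_replicate hs) ▸ sl_lt

theorem alt_lt (σ : alternatingGroup (Fin 4)) : ∀ s ∈ altWord σ, s < SuzOut.Data.k :=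
  lt_of_allB (seven_letters.2.1 σ)

theorem evalW_one {H : Type*} [Group H] (g : ℕ → H) (s : ℕ) : evalW g [s] = g s := by simp [evalW]

theorem seven_eq {a b : List ℕ} (ha : ∀ s ∈ a, s < SuzOut.Data.k) (hb : ∀ s ∈ b, s < SuzOut.Data.k)
    (h : eqOn 11 SuzOut.Data.codes SuzOut.Data.mainBase a b = true) :
    evalW SuzOut.gen a = evalW SuzOut.gen b :=
  eq_of_eqOn SuzOut.coded SuzOut.base_isBase ha hb h

/-- The alternating group inside. -/
noncomputable def altHom : alternatingGroup (Fin 4) →* Spor.Suz :=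
  MonoidHom.mk' (fun σ => evalW SuzOut.gen (altWord σ)) fun σ τ => by
    rw [← evalW_append]
    exact seven_eq (alt_lt _) (fun s hs => (List.mem_append.mp hs).elim (alt_lt σ s) (alt_lt τ s))
      (alt_mul σ τ)

theorem altHom_comm (σ : alternatingGroup (Fin 4)) : altHom σ * el7 = el7 * altHom σ := by
  have := seven_eq (a := altWord σ ++ [SuzOut.Data.sLetter]) (b := SuzOut.Data.sLetter :: altWord σ)
    (fun s hs => (List.mem_append.mp hs).elim (alt_lt σ s) fun h => (List.mem_singleton.mp h) ▸ sl_lt)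
    (fun s hs => (List.mem_cons.mp hs).elim (fun h => h ▸ sl_lt) (alt_lt σ s)) (alt_comm σ)
  rw [evalW_append, evalW_one, evalW_cons] at this
  exact this

/-- `C7 × A4`. -/
noncomputable def sevenHom : Multiplicative (ZMod 7) × alternatingGroup (Fin 4) →* Spor.Suz :=
  MonoidHom.noncommCoprod (powHom el7 el7_pow) altHom fun _ σ =>
    Commute.pow_left (Commute.symm (altHom_comm σ)) _

theorem sevenHom_apply (i : Multiplicative (ZMod 7)) (σ : alternatingGroup (Fin 4)) :
    sevenHom (i, σ) = evalW SuzOut.gen (sevenWord (Multiplicative.toAdd i).val σ) := by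
  rw [sevenWord, evalW_append, evalW_replicate]
  rfl

theorem sevenHom_injective : Function.Injective sevenHom := by
  rw [injective_iff_map_eq_one]
  rintro ⟨i, σ⟩ h
  rw [sevenHom_apply] at h
  obtain ⟨h1, h2⟩ := seven_ne ⟨(Multiplicative.toAdd i).val, ZMod.val_lt _⟩ σ
    (OutTab.eqOn_of_eq SuzOut.coded SuzOut.base_isBase.1
      (fun s hs => (List.mem_append.mp hs).elim (rep_lt _ s) (alt_lt σ s)) (by simp) h)
  have hi : (Multiplicative.toAdd i).val = 0 := congrArg Fin.val h1
  rw [h2, show i = 1 from Multiplicative.toAdd.injective ((ZMod.val_eq_zero _).mp hi)]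
  rfl

theorem sevenHom_range : sevenHom.range = centralizer ({el7} : Set Spor.Suz) := by
  have := SuzOut.finite_suz
  ext g
  constructor
  · rintro ⟨⟨i, σ⟩, rfl⟩
    rw [mem_centralizer_singleton_iff]
    exact (Commute.pow_left (Commute.refl el7) _).mul_left (altHom_comm σ)
  · intro hg
    obtain ⟨j, hj, rfl⟩ := OutTab.centraliser_cases SuzOut.cent_checks SuzOut.coded SuzOut.base_isBase
      SuzOut.small_ok.1 SuzOut.main_wf.1 SuzOut.main_wf.2.1 SuzOut.main_distinct
      (SuzOut.main_wf.2.2.1.trans SuzOut.card_suz.symm) (mem_centralizer_singleton_iff.mp hg)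
    set u := SuzOut.Data.els.get [] j with hu
    have hul : ∀ s ∈ u, s < SuzOut.Data.k := lt_of_allB (allBelow_eq_true.mp SuzOut.els_letters j hj)
    have hk := allBelow_eq_true.mp seven_kinds j hj
    rw [sevenKindB, forceN_eq, forceL_eq, ← hu] at hk
    cases hc : Nat.beq (Data.sevenKinds.get 0 j) 0
    · rw [hc, cond_false, Bool.and_eq_true, Nat.blt_eq] at hk
      obtain ⟨hi, he⟩ := hk
      set i := Nat.div (Nat.sub (Data.sevenKinds.get 0 j) 1) 16
      set c := Nat.mod (Nat.sub (Data.sevenKinds.get 0 j) 1) 16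
      have hc16 : c < 16 := Nat.mod_lt _ (by norm_num)
      obtain ⟨σ, hσ⟩ : ∃ σ : alternatingGroup (Fin 4),
          evalW SuzOut.gen (Data.altWords.getD c []) = evalW SuzOut.gen (altWord σ) ∧
            ∀ s ∈ Data.altWords.getD c [], s < SuzOut.Data.k := by
        by_cases hex : ∃ σ : alternatingGroup (Fin 4), altCode σ = c
        · obtain ⟨σ, hσ⟩ := hex
          exact ⟨σ, by rw [altWord, hσ], fun s hs => alt_lt σ s (by rwa [altWord, hσ])⟩
        · push Not at hex
          have h0 := alt_codes ⟨c, hc16⟩ fun σ e => hex σ e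
          refine ⟨1, ?_, fun s hs => absurd hs (by rw [h0]; simp)⟩
          rw [h0]
          exact (map_one altHom).symm
      refine ⟨(Multiplicative.ofAdd ((i : ℕ) : ZMod 7), σ), ?_⟩
      rw [sevenHom_apply, seven_eq hul
        (fun s hs => (List.mem_append.mp hs).elim (rep_lt _ s) (hσ.2 s)) he, sevenWord, evalW_append,
        evalW_append, hσ.1, toAdd_ofAdd, ZMod.val_cast_of_lt hi]
    · rw [hc, cond_true] at hk
      exfalso
      rw [OutTab.eqOn_of_eq SuzOut.coded SuzOut.base_isBase.1
        (fun s hs => (List.mem_append.mp hs).elim (hul s) fun h => (List.mem_singleton.mp h) ▸ sl_lt)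
        (fun s hs => (List.mem_cons.mp hs).elim (fun h => h ▸ sl_lt) (hul s))
        (by rw [evalW_append, evalW_one, evalW_cons]; exact mem_centralizer_singleton_iff.mp hg)] at hk
      exact Bool.noConfusion hk

/-- The standard Sylow 7-subgroup. -/
theorem exists_sylow_seven [Fact (Nat.Prime 7)] :
    ∃ P : Sylow 7 Spor.Suz, (P : Subgroup Spor.Suz) = zpowers el7 := by
  have := SuzOut.finite_suz
  refine ⟨Sylow.ofCard (zpowers el7) ?_, rfl⟩
  rw [Nat.card_zpowers, el7_order, SuzOut.card_suz,
    show (448345497600 : ℕ) = 7 ^ 1 * 64049356800 by norm_num,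
    Nat.factorization_mul (by norm_num) (by norm_num), Finsupp.add_apply,
    Nat.Prime.factorization_pow (by norm_num), Finsupp.single_eq_same,
    Nat.factorization_eq_zero_of_not_dvd (by norm_num)]
  norm_num

theorem centralizer_zpowers_el7 :
    centralizer ((zpowers el7 : Subgroup Spor.Suz) : Set Spor.Suz) = sevenHom.range := by
  rw [sevenHom_range, zpowers_eq_closure, centralizer_closure]

theorem card_cent_seven : Nat.card (centralizer ((zpowers el7 : Subgroup Spor.Suz) : Set Spor.Suz)) = 84 := by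
  rw [centralizer_zpowers_el7, ← Nat.card_congr (MonoidHom.ofInjective sevenHom_injective).toEquiv,
    Nat.card_prod, Nat.card_congr Multiplicative.toAdd, Nat.card_zmod, nat_card_alternatingGroup,
    Nat.card_fin]
  decide

theorem card_norm_seven : Nat.card (normalizer ((zpowers el7 : Subgroup Spor.Suz) : Set Spor.Suz)) = 504 := by
  have := SuzOut.finite_suz
  have := Fact.mk (show Nat.Prime 7 by norm_num)
  obtain ⟨hnl, -, hn⟩ := seven_letters
  have hnl' := lt_of_allB hnl
  set n := evalW SuzOut.gen Data.normWord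
  have hconj : n * el7 * n⁻¹ = el7 ^ 3 := by
    have := seven_eq (a := Data.normWord ++ [SuzOut.Data.sLetter])
      (b := List.replicate 3 SuzOut.Data.sLetter ++ Data.normWord)
      (fun s hs => (List.mem_append.mp hs).elim (hnl' s) fun h => (List.mem_singleton.mp h) ▸ sl_lt)
      (fun s hs => (List.mem_append.mp hs).elim (rep_lt _ s) (hnl' s)) hn
    rw [evalW_append, evalW_append, evalW_replicate] at this
    rw [mul_inv_eq_iff_eq_mul]
    rw [evalW_one] at this
    exact this
  set K : Subgroup Spor.Suz := zpowers el7 with hK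
  have hnN : n ∈ normalizer (K : Set Spor.Suz) := by
    refine mem_normalizer_fintype fun y hy => ?_
    obtain ⟨k, rfl⟩ := mem_zpowers_iff.mp hy
    rw [← conj_zpow, hconj]
    exact zpow_mem (pow_mem (mem_zpowers _) 3) _
  let φ := normalizerMonoidHom K
  have hpow : ∀ m : ℕ, n ^ m * el7 * (n ^ m)⁻¹ = el7 ^ (3 ^ m) := by
    intro m
    induction m with
    | zero => simp
    | succ m ih =>
      rw [pow_succ', mul_inv_rev, show n * n ^ m * el7 * ((n ^ m)⁻¹ * n⁻¹) =
        n * (n ^ m * el7 * (n ^ m)⁻¹) * n⁻¹ by group, ih, ← conj_pow, hconj, ← pow_mul, pow_succ' 3 m]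
  have hcardK : Nat.card K = 7 := (Nat.card_zpowers el7).trans el7_order
  have : IsCyclic K := isCyclic_of_prime_card hcardK
  have hord : orderOf (φ ⟨n, hnN⟩) = 6 := by
    have key : ∀ m : ℕ, φ ⟨n, hnN⟩ ^ m = 1 ↔ 3 ^ m % 7 = 1 := by
      intro m
      rw [← map_pow]
      constructor
      · intro h
        have h1 := congrArg (fun f : MulAut K => ((f ⟨el7, mem_zpowers el7⟩ : K) : Spor.Suz)) h
        have h2 : n ^ m * el7 * (n ^ m)⁻¹ = el7 := h1
        rw [hpow] at h2
        have h3 : el7 ^ (3 ^ m) = el7 ^ 1 := by rw [h2, pow_one]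
        rw [pow_inj_mod, el7_order] at h3
        simpa using h3
      · intro h
        refine MulEquiv.ext fun x => Subtype.ext ?_
        obtain ⟨k, hk⟩ := mem_zpowers_iff.mp x.2
        show n ^ m * (x : Spor.Suz) * (n ^ m)⁻¹ = x
        rw [← hk, ← conj_zpow, hpow, ← pow_mod_orderOf el7 (3 ^ m), el7_order, h, pow_one]
    rw [orderOf_eq_iff (by norm_num)]
    refine ⟨(key 6).mpr (by norm_num), fun m hm hm0 h => ?_⟩
    have := (key m).mp h
    interval_cases m <;> norm_num at this
  have hrange : Nat.card φ.range = 6 := by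
    refine le_antisymm ?_ ?_
    · refine le_trans (Nat.le_of_dvd Nat.card_pos (card_subgroup_dvd_card φ.range)) (le_of_eq ?_)
      rw [IsCyclic.card_mulAut, hcardK, Nat.totient_prime (by norm_num)]
    · refine Nat.le_of_dvd Nat.card_pos ?_
      rw [← hord]
      exact Subgroup.orderOf_dvd_natCard _ (MonoidHom.mem_range.mpr ⟨_, rfl⟩)
  rw [← Subgroup.card_mul_index φ.ker, index_ker, hrange, normalizerMonoidHom_ker,
    Nat.card_congr (subgroupOfEquivOfLe (centralizer_le_normalizer _)).toEquiv, hK, card_cent_seven]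

/-- S5383 for groups isomorphic to the Suzuki group. -/
theorem suz_sylow_seven {G : Type*} [Group G] [Finite G] (h : Spor.IsoSuz G) (B : Sylow 7 G) :
    Nonempty (↥(centralizer ((B : Subgroup G) : Set G)) ≃* Multiplicative (ZMod 7) × alternatingGroup (Fin 4)) ∧
      Nat.card ↥(normalizer ((B : Subgroup G) : Set G)) = 504 := by
  have := SuzOut.finite_suz
  have := Fact.mk (show Nat.Prime 7 by norm_num)
  obtain ⟨e⟩ := h
  obtain ⟨P0, hP0⟩ := exists_sylow_seven
  obtain ⟨φ, hφ⟩ := exists_equiv_map e B P0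
  rw [hP0] at hφ
  refine ⟨⟨?_⟩, by rw [card_normalizer_map φ, hφ, card_norm_seven]⟩
  exact ((centralizer ((B : Subgroup G) : Set G)).equivMapOfInjective φ.toMonoidHom φ.injective).trans
    ((MulEquiv.subgroupCongr (by rw [map_centralizer, hφ, centralizer_zpowers_el7])).trans
      (MonoidHom.ofInjective sevenHom_injective).symm)

end Cfsg.Agent.SuzFacts
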