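import Cfsg.Agent.SuzFacts.FiveBase
import Cfsg.Agent.SuzFacts.Transport

/-!
The classes of elements of order five and the normaliser of a Sylow 5-subgroup of the Suzuki group.
-/

set_option autoImplicit false
set_option maxRecDepth 100000

namespace Cfsg.Agent.SuzFacts

open Cfsg Cfsg.Agent.Compute Cfsg.Agent.StemCert Cfsg.Agent.OutTab Subgroup

/-- The points fixed by an element. -/
noncomputable def fixPts (g : Spor.Suz) : Finset (Fin 1782) :=
  Finset.univ.filter fun a => SuzOut.ι g a = a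

theorem card_fixPts_conj (g x : Spor.Suz) : (fixPts (g * x * g⁻¹)).card = (fixPts x).card := by
  refine (Finset.card_equiv (SuzOut.ι g) fun a => ?_).symm
  simp only [fixPts, Finset.mem_filter, Finset.mem_univ, true_and, map_mul, map_inv,
    Equiv.Perm.mul_apply, Equiv.Perm.inv_def, Equiv.symm_apply_apply, EmbeddingLike.apply_eq_iff_eq]

theorem card_fixPts_el5 : (fixPts el5).card ≤ 2 := by
  rw [← Finset.card_map Fin.valEmbedding, ← five_conjs.2.2.2.2.1]
  refine le_trans (Finset.card_le_card fun a ha => ?_) (List.toFinset_card_le _)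
  obtain ⟨b, hb, rfl⟩ := Finset.mem_map.mp ha
  have hb' : SuzOut.ι el5 b = b := (Finset.mem_filter.mp hb).2
  have e : getField 11 (Data.codes.getD 0 0) b = b := by
    rw [← coded5 0 (by norm_num) b]
    exact congrArg Fin.val hb'
  have h := allBelow_eq_true.mp (show (allBelow 1782 fun p =>
      !(Nat.beq (getField 11 (Data.codes.getD 0 0) p) p) || memB p Data.fx) = true by
    have := five_fix; rwa [fixListB, forceN_eq] at this) b b.2
  simp only [Bool.or_eq_true, Bool.not_eq_true'] at h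
  rcases h with h | h
  · rw [show Nat.beq (getField 11 (Data.codes.getD 0 0) b) b = true from Nat.beq_eq.mpr e] at h
    exact Bool.noConfusion h
  · exact List.mem_toFinset.mpr (memB_eq_true.mp h)

theorem class_iA : (Data.conjs.getD Data.iA (2, [])).1 = 1 := by decide +kernel

/-- An element of order five fixing more points. -/
noncomputable def elA : Spor.Suz := evalW gen5 (pWord Data.iA)

theorem elA_mem : elA ∈ P0 := mem_P0.mpr ⟨_, five_conjs.2.2.2.2.2.1, rfl⟩

theorem elA_ne : elA ≠ 1 := fun h => five_conjs.2.2.2.2.2.2.1.ne'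
  (pWord_inj five_conjs.2.2.2.2.2.1 (by norm_num) (h.trans pWord_zero.symm))

theorem card_fixPts_elA_pow (k : ℕ) : 3 ≤ (fixPts (elA ^ k)).card := by
  obtain ⟨-, hfix, hlen, hnd, -, hlt, hpos, -⟩ := five_conjs
  have h := allBelow_eq_true.mp hfix Data.iA hlt
  simp only [Bool.or_eq_true, Bool.not_eq_true', class_iA] at h
  rw [← hlen, ← List.toFinset_card_of_nodup hnd, ← Finset.card_map Fin.valEmbedding (s := fixPts _)]
  refine Finset.card_le_card fun a ha => ?_
  rcases h with (h | h) | h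
  · exact absurd (Nat.eq_of_beq_eq_true h) hpos.ne'
  · exact absurd h (by decide)
  have h' := allB_spec h a (List.mem_toFinset.mp ha)
  simp only [Bool.and_eq_true, Nat.blt_eq] at h'
  have e : SuzOut.ι elA ⟨a, h'.1⟩ = ⟨a, h'.1⟩ := Fin.ext (by
    rw [elA, appW_spec coded5 _ (pWord_lt _)]
    exact Nat.eq_of_beq_eq_true h'.2)
  refine Finset.mem_map.mpr ⟨⟨a, h'.1⟩, Finset.mem_filter.mpr ⟨Finset.mem_univ _, ?_⟩, rfl⟩
  rw [map_pow]
  exact Equiv.Perm.pow_apply_eq_self_of_apply_eq_self e k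

theorem not_conj_elA (g : Spor.Suz) (k : ℕ) : g * el5 * g⁻¹ ≠ elA ^ k := fun h => by
  have h1 := card_fixPts_conj g el5
  have h2 := card_fixPts_elA_pow k
  have h3 := card_fixPts_el5
  rw [h] at h1
  omega

/-- The class of a number below 25. -/
noncomputable def cls (i : ℕ) : ℕ := (Data.conjs.getD i (2, [])).1

/-- A conjugating element. -/
noncomputable def conjEl (i : ℕ) : Spor.Suz := evalW gen5 (Data.conjs.getD i (2, [])).2

theorem conj_spec {i : ℕ} (hi : i < 25) (h0 : i ≠ 0) :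
    cls i < 2 ∧ conjEl i ∈ normalizer (P0 : Set Spor.Suz) ∧
      conjEl i * (if cls i = 0 then el5 else elA) * (conjEl i)⁻¹ = evalW gen5 (pWord i) := by
  have h := allBelow_eq_true.mp five_conjs.1 i hi
  simp only [conjB, forceN_eq, forceL_eq, Bool.or_eq_true, Bool.and_eq_true, Nat.blt_eq] at h
  rcases h with h | ⟨⟨⟨⟨hc, hu⟩, he⟩, hp⟩, hq⟩
  · exact absurd (Nat.eq_of_beq_eq_true h) h0
  have hu' := allB_lt hu
  refine ⟨hc, mem_normalizer_P0 ((intoP_iff hu' (by norm_num)).mp hp)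
    ((intoP_iff hu' (by norm_num)).mp hq), ?_⟩
  rw [mul_inv_eq_iff_eq_mul]
  by_cases hcl : (Data.conjs.getD i (2, [])).1 = 0
  · rw [if_pos hcl] at he
    have := eq5 (lt_append hu' (lt_single (by norm_num))) (lt_append (pWord_lt i) hu') he
    rw [evalW_append, evalW_append, eval_single] at this
    rw [show cls i = 0 from hcl, if_pos rfl]
    exact this
  · rw [if_neg hcl] at he
    have := eq5 (lt_append hu' (pWord_lt _)) (lt_append (pWord_lt i) hu') he
    rw [evalW_append, evalW_append] at this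
    rw [if_neg (show cls i ≠ 0 from hcl)]
    exact this

theorem cls_of_conj {g : Spor.Suz} (hg : g ∈ normalizer (P0 : Set Spor.Suz)) :
    ∃ i < 25, cls i = 0 ∧ i ≠ 0 ∧ g * el5 * g⁻¹ = evalW gen5 (pWord i) := by
  obtain ⟨i, hi, he⟩ := mem_P0.mp (conj_mem_P0 hg el5_mem)
  have h0 : i ≠ 0 := by
    rintro rfl
    rw [pWord_zero, conj_eq_one_iff] at he
    exact el5_ne he
  obtain ⟨hc, -, hconj⟩ := conj_spec hi h0
  refine ⟨i, hi, ?_, h0, he⟩
  by_contra hne
  rw [if_neg hne, ← he] at hconj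
  refine not_conj_elA ((conjEl i)⁻¹ * g) 1 ?_
  rw [pow_one, mul_inv_rev, inv_inv,
    show (conjEl i)⁻¹ * g * el5 * (g⁻¹ * conjEl i) = (conjEl i)⁻¹ * (g * el5 * g⁻¹) * conjEl i by group,
    ← hconj]
  group

theorem cls_zero_ne {i : ℕ} (h : cls i = 0) : i ≠ 0 := by
  rintro rfl
  exact absurd h (by decide +kernel)

theorem card_normalizer_P0 : Nat.card (normalizer (P0 : Set Spor.Suz)) = 600 := by
  have := SuzOut.finite_suz
  set S := (Finset.range 25).filter fun i => cls i = 0 with hS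
  have hSc : S.card = 12 := five_conjs.2.2.2.2.2.2.2
  have hSmem : ∀ i : S, (i : ℕ) < 25 ∧ cls i = 0 := fun i =>
    ⟨Finset.mem_range.mp (Finset.mem_filter.mp i.2).1, (Finset.mem_filter.mp i.2).2⟩
  let f : S × Fin 50 → normalizer (P0 : Set Spor.Suz) := fun x =>
    ⟨conjEl x.1 * repEl x.2, mul_mem (conj_spec (hSmem x.1).1 (cls_zero_ne (hSmem x.1).2)).2.1
      (rep_spec x.2.2).2.1⟩
  have hf : ∀ x : S × Fin 50, (f x : Spor.Suz) * el5 * (f x : Spor.Suz)⁻¹ = evalW gen5 (pWord x.1) := by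
    intro x
    obtain ⟨-, -, h⟩ := conj_spec (hSmem x.1).1 (cls_zero_ne (hSmem x.1).2)
    rw [if_pos (hSmem x.1).2] at h
    show conjEl x.1 * repEl x.2 * el5 * (conjEl x.1 * repEl x.2)⁻¹ = _
    rw [mul_inv_rev, mul_assoc (conjEl x.1) (repEl x.2) el5, (rep_spec x.2.2).1, ← h]
    group
  have hbij : Function.Bijective f := by
    constructor
    · intro x y h
      have h1 : (x.1 : ℕ) = y.1 := pWord_inj (hSmem x.1).1 (hSmem y.1).1 (by rw [← hf x, ← hf y, h])
      have h2 := congrArg Subtype.val h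
      change conjEl x.1 * repEl x.2 = conjEl y.1 * repEl y.2 at h2
      rw [h1] at h2
      exact Prod.ext (Subtype.ext h1) (Fin.ext (rep_inj x.2.2 y.2.2 (mul_left_cancel h2)))
    · rintro ⟨g, hg⟩
      obtain ⟨i, hi, hc, h0, he⟩ := cls_of_conj hg
      obtain ⟨-, hn, h⟩ := conj_spec hi h0
      rw [if_pos hc] at h
      have hcomm : (conjEl i)⁻¹ * g * el5 = el5 * ((conjEl i)⁻¹ * g) := by
        calc (conjEl i)⁻¹ * g * el5 = (conjEl i)⁻¹ * (g * el5 * g⁻¹) * g := by group
          _ = (conjEl i)⁻¹ * (conjEl i * el5 * (conjEl i)⁻¹) * g := by rw [he, h]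
          _ = _ := by group
      obtain ⟨r, hr, hre⟩ := rep_surj (mul_mem (inv_mem hn) hg) hcomm
      refine ⟨⟨⟨i, by rw [hS, Finset.mem_filter, Finset.mem_range]; exact ⟨hi, hc⟩⟩, ⟨r, hr⟩⟩, Subtype.ext ?_⟩
      show conjEl i * repEl r = g
      rw [← hre, mul_inv_cancel_left]
  rw [← Nat.card_congr (Equiv.ofBijective f hbij), Nat.card_prod, Nat.card_eq_fintype_card,
    Fintype.card_coe, hSc, Nat.card_fin]

theorem solWord_lt (x : Multiplicative (ZMod 4) × Equiv.Perm (Fin 3)) : ∀ s ∈ solWord x, s < 19 := by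
  have h := sol_into x
  simp only [Bool.and_eq_true] at h
  exact allB_lt h.1.1

/-- `C4 × S3` inside the normaliser. -/
noncomputable def solHom :
    Multiplicative (ZMod 4) × Equiv.Perm (Fin 3) →* ↥(normalizer (P0 : Set Spor.Suz)) :=
  MonoidHom.mk' (fun x => ⟨evalW gen5 (solWord x), by
    have h := sol_into x
    simp only [Bool.and_eq_true] at h
    exact mem_normalizer_P0 ((intoP_iff (allB_lt h.1.1) (by norm_num)).mp h.1.2)
      ((intoP_iff (allB_lt h.1.1) (by norm_num)).mp h.2)⟩) fun x y => Subtype.ext (by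
    rw [Subgroup.coe_mul, ← evalW_append]
    exact eq5 (solWord_lt _) (lt_append (solWord_lt x) (solWord_lt y)) (sol_mul x y))

theorem quotient_P0 :
    Nonempty (↥(normalizer (P0 : Set Spor.Suz)) ⧸ P0.subgroupOf (normalizer (P0 : Set Spor.Suz)) ≃*
      Multiplicative (ZMod 4) × Equiv.Perm (Fin 3)) := by
  have := SuzOut.finite_suz
  let K := P0.subgroupOf (normalizer (P0 : Set Spor.Suz))
  let f := (QuotientGroup.mk' K).comp solHom
  have hinj : Function.Injective f := by
    rw [injective_iff_map_eq_one]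
    intro x hx
    have hmem : solHom x ∈ K := (QuotientGroup.eq_one_iff _).mp hx
    obtain ⟨j, hj, he⟩ := mem_P0.mp (show evalW gen5 (solWord x) ∈ P0 from hmem)
    exact sol_out x ⟨j, hj⟩ (eqFive_of_eq (solWord_lt x) (pWord_lt j) he)
  have hcard : Nat.card (Multiplicative (ZMod 4) × Equiv.Perm (Fin 3)) =
      Nat.card (↥(normalizer (P0 : Set Spor.Suz)) ⧸ K) := by
    have h1 := K.card_eq_card_quotient_mul_card_subgroup
    rw [card_normalizer_P0, Nat.card_congr (subgroupOfEquivOfLe le_normalizer).toEquiv, card_P0] at h1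
    rw [Nat.card_prod, Nat.card_congr Multiplicative.toAdd, Nat.card_zmod, Nat.card_perm, Nat.card_fin,
      show Nat.factorial 3 = 6 from rfl]
    omega
  exact ⟨(MulEquiv.ofBijective f ((Nat.bijective_iff_injective_and_card f).mpr ⟨hinj, hcard⟩)).symm⟩

theorem conj_into_pair {c : Spor.Suz} (hc : c ∈ P0) (hne : c ≠ 1) :
    ∃ g : Spor.Suz, g * c * g⁻¹ = el5 ∨ g * c * g⁻¹ = elA := by
  obtain ⟨i, hi, rfl⟩ := mem_P0.mp hc
  obtain ⟨-, -, h⟩ := conj_spec hi fun h0 => hne (h0 ▸ pWord_zero)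
  refine ⟨(conjEl i)⁻¹, ?_⟩
  rw [← h]
  by_cases hc0 : cls i = 0
  · rw [if_pos hc0]
    exact Or.inl (by group)
  · rw [if_neg hc0]
    exact Or.inr (by group)

theorem map_conj_zpowers {H : Type*} [Group H] (g c : H) :
    (zpowers c).map (MulAut.conj g).toMonoidHom = zpowers (g * c * g⁻¹) :=
  MonoidHom.map_zpowers _ c

theorem pow_five : ∀ x : Multiplicative (ZMod 5) × Multiplicative (ZMod 5), x ^ 5 = 1 := by decide

/-- S5384 for groups isomorphic to the Suzuki group. -/
theorem suz_sylow_five {G : Type*} [Group G] [Finite G] (h : Spor.IsoSuz G) (P : Sylow 5 G) :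
    (∃ A B : Subgroup G, Nat.card A = 5 ∧ Nat.card B = 5 ∧
        (∀ g : G, A.map (MulAut.conj g).toMonoidHom ≠ B) ∧
        ∀ C : Subgroup G, Nat.card C = 5 →
          ∃ g : G, C.map (MulAut.conj g).toMonoidHom = A ∨ C.map (MulAut.conj g).toMonoidHom = B) ∧
      Nat.card (P : Subgroup G) = 25 ∧
      Nat.card ↥(normalizer ((P : Subgroup G) : Set G)) = 600 ∧
      Nonempty (↥(normalizer ((P : Subgroup G) : Set G)) ⧸
          (P : Subgroup G).subgroupOf (normalizer ((P : Subgroup G) : Set G)) ≃*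
        Multiplicative (ZMod 4) × Equiv.Perm (Fin 3)) := by
  have := SuzOut.finite_suz
  have := Fact.mk (show Nat.Prime 5 by norm_num)
  obtain ⟨e⟩ := h
  obtain ⟨P5, hP5⟩ := exists_sylow_five
  obtain ⟨φ, hφ⟩ := exists_equiv_map e P P5
  rw [hP5] at hφ
  have hord : ∀ {x : Spor.Suz}, x ∈ P0 → x ≠ 1 → orderOf x = 5 := by
    intro x hx hne
    refine orderOf_eq_prime ?_ hne
    obtain ⟨⟨a, b⟩, rfl⟩ := hx
    rw [← map_pow, pow_five (a, b), map_one]
  have hA : orderOf (φ.symm el5) = 5 := (φ.symm.orderOf_eq _).trans (hord el5_mem el5_ne)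
  have hB : orderOf (φ.symm elA) = 5 := (φ.symm.orderOf_eq _).trans (hord elA_mem elA_ne)
  refine ⟨⟨zpowers (φ.symm el5), zpowers (φ.symm elA), ?_, ?_, ?_, ?_⟩, ?_, ?_, ?_⟩
  · rw [Nat.card_zpowers, hA]
  · rw [Nat.card_zpowers, hB]
  · intro g hg
    rw [map_conj_zpowers] at hg
    obtain ⟨k, hk⟩ := (mem_powers_iff_mem_zpowers (x := φ.symm elA)).mpr
      (hg ▸ mem_zpowers (g * φ.symm el5 * g⁻¹))
    refine not_conj_elA (φ g) k ?_
    have := congrArg φ hk
    simp only [map_pow, map_mul, map_inv, MulEquiv.apply_symm_apply] at this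
    exact this.symm
  · intro C hC
    obtain ⟨c, hcC, hc⟩ : ∃ c : G, c ≠ 1 ∧ C = zpowers c := by
      have : IsCyclic C := isCyclic_of_prime_card hC
      obtain ⟨⟨c, hc⟩, hgen⟩ := IsCyclic.exists_generator (α := C)
      refine ⟨c, ?_, le_antisymm (fun x hx => ?_) (zpowers_le.mpr hc)⟩
      · rintro rfl
        have : Subsingleton C := ⟨fun x y => by
          obtain ⟨i, rfl⟩ := hgen x
          obtain ⟨j, rfl⟩ := hgen y
          exact Subtype.ext (by simp)⟩
        rw [Nat.card_of_subsingleton (1 : C)] at hC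
        norm_num at hC
      · obtain ⟨i, hi⟩ := hgen ⟨x, hx⟩
        exact ⟨i, congrArg Subtype.val hi⟩
    have hp : IsPGroup 5 C := IsPGroup.of_card (n := 1) (by rw [hC, pow_one])
    obtain ⟨R, hR⟩ := hp.exists_le_sylow
    obtain ⟨d, hd⟩ := MulAction.exists_smul_eq G R P
    have hmem : φ (d * c * d⁻¹) ∈ P0 := by
      rw [← hφ]
      refine ⟨_, ?_, rfl⟩
      rw [← hd, Sylow.coe_subgroup_smul, Subgroup.pointwise_smul_def]
      exact ⟨c, hR (hc ▸ mem_zpowers c), rfl⟩
    obtain ⟨g, hg | hg⟩ := conj_into_pair hmem (by simp [conj_eq_one_iff, hcC])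
    · refine ⟨φ.symm g * d, Or.inl ?_⟩
      rw [hc, map_conj_zpowers, ← hg]
      simp [mul_assoc]
    · refine ⟨φ.symm g * d, Or.inr ?_⟩
      rw [hc, map_conj_zpowers, ← hg]
      simp [mul_assoc]
  · rw [Nat.card_congr ((P : Subgroup G).equivMapOfInjective φ.toMonoidHom φ.injective).toEquiv, hφ,
      card_P0]
  · rw [card_normalizer_map φ, hφ, card_normalizer_P0]
  · obtain ⟨ψ⟩ := quotient_normalizer φ _ _ hφ
    obtain ⟨χ⟩ := quotient_P0
    exact ⟨ψ.trans χ⟩

end Cfsg.Agent.SuzFacts
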