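import Cfsg.Agent.SuzFacts.Defs
import Cfsg.Agent.LeechModel.Words
import Cfsg.Agent.OutTab.CriterionTwo

/-!
Checks at the prime five.
-/

set_option autoImplicit false
set_option maxRecDepth 100000
set_option maxHeartbeats 0

namespace Cfsg.Agent.SuzFacts

open Cfsg.Agent.Compute Cfsg.Agent.StemCert Cfsg.Agent.OutTab Cfsg.Agent.LeechModel

theorem five_words : wordsB 1782 11 SuzOut.Data.k SuzOut.Data.codes Data.letters Data.codes 19 = true := by
  decide +kernel

theorem five_wf : wfB Data.levels = true ∧ gensBelow 19 Data.levels = true ∧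
    numForms Data.levels = 448345497600 ∧ (∀ b ∈ Data.base, b < 1782) := by
  refine ⟨?_, ?_, ?_, ?_⟩ <;> decide +kernel

theorem five_distinct : distinctB 11 Data.codes Data.levels Data.base = true :=
  distinctB_cons_of_pos (P := Data.pos0) (by decide +kernel)
    (distinctB_cons_of_pos (P := Data.pos1) (by decide +kernel)
      (distinctB_cons_of_pos (P := Data.pos2) (by decide +kernel)
        (distinctB_cons_of_pos (P := Data.pos3) (by decide +kernel) rfl)))

theorem five_iv : ivB 11 19 Data.codes Data.base Data.ivs = true := by decide +kernel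

theorem five_mask : maskB 11 Data.codes Data.levels Data.base Data.masks = true := by decide +kernel

theorem five_fix : fixListB 1782 11 Data.codes 0 Data.fx = true := by decide +kernel

theorem five_cand0 : rangeB (fun j => candB 1782 11 19 Data.codes Data.ivs Data.levels Data.base Data.masks
    0 [0,1,2] Data.fx Data.els 300 Data.candTab j) 0 1782 = true := by decide +kernel

theorem five_cand1 : rangeB (fun j => candB 1782 11 19 Data.codes Data.ivs Data.levels Data.base Data.masks
    0 [0,1,2] Data.fx Data.els 300 Data.candTab j) 1782 3564 = true := by decide +kernel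

theorem five_small : eqFive (List.replicate 5 0) [] = true ∧ eqFive (List.replicate 5 1) [] = true ∧
    eqFive [0] [] = false ∧ eqFive [0, 1] [1, 0] = true ∧
    (∀ i : Fin 25, ∀ j : Fin 25, eqFive (pWord i.val) (pWord j.val) = true → i = j) ∧
    allBelow 300 (fun j => allB (fun s => Nat.blt s 19) (Data.els.get [] j)) = true := by
  refine ⟨?_, ?_, ?_, ?_, ?_, ?_⟩ <;> decide +kernel

theorem five_kinds : allBelow 300 fiveKindB = true := by decide +kernel

theorem five_reps : allBelow 50 repB = true ∧
    allBelow 50 (fun i => allBelow i fun j => !(eqFive (Data.reps.getD i []) (Data.reps.getD j []))) = true := by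
  refine ⟨?_, ?_⟩ <;> decide +kernel

theorem five_conjs : allBelow 25 conjB = true ∧
    allBelow 25 (fun i => Nat.beq i 0 || !(Nat.beq (Data.conjs.getD i (2, [])).1 1) ||
      allB (fun a => Nat.blt a 1782 && Nat.beq (appW 11 Data.codes (pWord Data.iA) a) a) Data.fxA) = true ∧
    Data.fxA.length = 3 ∧ Data.fxA.Nodup ∧ Data.fx.length = 2 ∧ Data.iA < 25 ∧ 0 < Data.iA ∧
    ((Finset.range 25).filter fun i => (Data.conjs.getD i (2, [])).1 = 0).card = 12 := by
  refine ⟨?_, ?_, ?_, ?_, ?_, ?_, ?_, ?_⟩ <;> decide +kernel

theorem sol_mul : ∀ x y : Multiplicative (ZMod 4) × Equiv.Perm (Fin 3),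
    eqFive (solWord (x * y)) (solWord x ++ solWord y) = true := by decide +kernel

theorem sol_into : ∀ x : Multiplicative (ZMod 4) × Equiv.Perm (Fin 3),
    (allB (fun s => Nat.blt s 19) (solWord x) && intoP (solWord x) 0 && intoP (solWord x) 1) = true := by
  decide +kernel

theorem sol_out : ∀ x : Multiplicative (ZMod 4) × Equiv.Perm (Fin 3), ∀ j : Fin 25,
    eqFive (solWord x) (pWord j.val) = true → x = 1 := by decide +kernel

end Cfsg.Agent.SuzFacts
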