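import Cfsg.Agent.StemCert.Defs

/-! Candidates for the centraliser, and the normaliser. -/

set_option autoImplicit false
set_option maxRecDepth 100000
set_option maxHeartbeats 0
set_option linter.all false

namespace Cfsg.Agent.SuzFacts.Data

open Cfsg.Agent.StemCert

/-- Data. -/
noncomputable def cand0 : Arr (ℕ) := (.node 0x5a04bc0001 (.node 0x35c03b00001 (.node 10 (.node 0x3000a860001 (.node 0x96a0001 (.node 92 (.node 170 (.node 0x72a067e0001 (.node 301 .nil .nil) (.node 301 .nil .nil)) (.node 1 (.node 0x92a012d .nil .nil) .nil)) (.node 1 (.node 438 (.node 0x22807b0012d .nil .nil) (.node 0x2b4075a012d .nil .nil)) (.node 0x73e012d (.node 0x1a80602012d .nil .nil) .nil))) (.node 134 (.node 0x65008c80001 (.node 0x6c08ca0001 (.node 0x4d203a4012d .nil .nil) (.node 301 .nil .nil)) (.node 0x7c203c80001 (.node 0x1e6012d .nil .nil) .nil)) (.node 0x4be00360001 (.node 0x7a0006a0001 (.node 0x498012d .nil .nil) (.node 0x2a404ba012d .nil .nil)) (.node 0x768012d (.node 301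 .nil .nil) .nil)))) (.node 64 (.node 110 (.node 1 (.node 0x4c60001 (.node 0x1a800c0012d .nil .nil) (.node 0xd8012d .nil .nil)) (.node 0x9cc0001 (.node 0x5380914012d .nil .nil) .nil)) (.node 0x5100001 (.node 1 (.node 0x4a01f8012d .nil .nil) (.node 0x2ae0340012d .nil .nil)) (.node 0x6940160012d (.node 0x30e094c012d .nil .nil) .nil))) (.node 1 (.node 1 (.node 0x1e00001 (.node 0x6d2012d .nil .nil) (.node 0x222043c012d .nil .nil)) (.node 0x1be02540001 (.node 301 .nil .nil) .nil)) (.node 1 (.node 1 (.node 0x1580a4a012d .nil .nil) (.node 0x2380052012d .nil .nil)) (.node 0x67e0a4c012d (.node 0x23c0066012d .nil .nil) .nil))))) (.node 0x24402320001 (.node 0x4a60001 (.node 0x1fe0001 (.node 1 (.node 0x7820001 (.node 0x9b4012d .nil .nil) (.node 0x38209cc012d .nil .nil)) (.node 1 (.node 301 .nil .nil) .nil)) (.node 270 (.node 1 (.node 0x2bc046e012d .nil .nil) (.node 0x65405ce012d .nil .nil)) (.node 0x5ec012d (.node 0x19a039a012d .nil .nil) .nil))) (.node 1 (.node 1 (.node 0xa020001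 (.node 301 .nil .nil) (.node 0x23006a6012d .nil .nil)) (.node 0x24c0001 (.node 301 .nil .nil) .nil)) (.node 0x65406740001 (.node 1 (.node 0xd0012d .nil .nil) (.node 0xa46012d .nil .nil)) (.node 0x52604de012d (.node 301 .nil .nil) .nil)))) (.node 0x13e0001 (.node 0x74a02ec0001 (.node 0x7fe01800001 (.node 0x2a207ea0001 (.node 0x782034c012d .nil .nil) (.node 0x34806c4012d .nil .nil)) (.node 0x8a0001 (.node 0x2560348012d .nil .nil) .nil)) (.node 0x5fa09920001 (.node 1 (.node 301 .nil .nil) (.node 0x55406b6012d .nil .nil)) (.node 0x4e408b0012d (.node 0x990012d .nil .nil) .nil))) (.node 156 (.node 1 (.node 0x7120001 (.node 0x2ee076e012d .nil .nil) (.node 301 .nil .nil)) (.node 1 (.node 0x300576012d .nil .nil) .nil)) (.node 0x71e0001 (.node 498 (.node 301 .nil .nil) (.node 0x54e0552012d .nil .nil)) (.node 0x4a00580012d (.node 0x43e025a012d .nil .nil) .nil)))))) (.node 0x400034a0001 (.node 1 (.node 0x1b40001 (.node 96 (.node 0x9f00001 (.node 0x23604900001 (.node 0x5460692012d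 .nil .nil) (.node 0x4a012d .nil .nil)) (.node 514 (.node 0x912012d .nil .nil) .nil)) (.node 0x5620a4c0001 (.node 0x6f001020001 (.node 0x466012d .nil .nil) (.node 0x2aa062c012d .nil .nil)) (.node 0xa94012d (.node 0x6ac0a52012d .nil .nil) .nil))) (.node 0x10a04140001 (.node 0x17e08040001 (.node 1 (.node 301 .nil .nil) (.node 0x32c0a70012d .nil .nil)) (.node 566 (.node 0x3c2012d .nil .nil) .nil)) (.node 0x6ba06060001 (.node 0x7bc05f60001 (.node 0x3c6079a012d .nil .nil) (.node 0x2c203a2012d .nil .nil)) (.node 0x414012d (.node 301 .nil .nil) .nil)))) (.node 72 (.node 1 (.node 1 (.node 376 (.node 0x41a02de012d .nil .nil) (.node 0x64c012d .nil .nil)) (.node 1 (.node 301 .nil .nil) .nil)) (.node 0xde06500001 (.node 0x7c003cc0001 (.node 301 .nil .nil) (.node 0x5b80538012d .nil .nil)) (.node 0x2d8069e012d (.node 0x424089a012d .nil .nil) .nil))) (.node 0xec06ee0001 (.node 1 (.node 1 (.node 0x1ea07f6012d .nil .nil) (.node 301 .nil .nil)) (.node 0x34a03880001 (.node 0x7280262012d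 .nil .nil) .nil)) (.node 1 (.node 1 (.node 0x1a0358012d .nil .nil) (.node 301 .nil .nil)) (.node 0x4f00874012d (.node 0x77a0282012d .nil .nil) .nil))))) (.node 36 (.node 0x30a053a0001 (.node 106 (.node 1 (.node 0x52c05da0001 (.node 301 .nil .nil) (.node 0x4fa012d .nil .nil)) (.node 1 (.node 301 .nil .nil) .nil)) (.node 0x7d800660001 (.node 0x4ec02f00001 (.node 0x760095c012d .nil .nil) (.node 301 .nil .nil)) (.node 301 (.node 0x6e2086a012d .nil .nil) .nil))) (.node 1 (.node 0x1f004f20001 (.node 1 (.node 0xa6e012d .nil .nil) (.node 0x42200e6012d .nil .nil)) (.node 1 (.node 0x5760430012d .nil .nil) .nil)) (.node 0x10e0001 (.node 0x71201260001 (.node 0x6a07c8012d .nil .nil) (.node 0x7ec0094012d .nil .nil)) (.node 0x7e4012d (.node 0x960012d .nil .nil) .nil)))) (.node 86 (.node 1 (.node 1 (.node 0x7fa089a0001 (.node 0x226032a012d .nil .nil) (.node 0xda01de012d .nil .nil)) (.node 0x75608b80001 (.node 0x6ba02e8012d .nil .nil) .nil)) (.node 288 (.node 0x74405f20001 (.node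 301 .nil .nil) (.node 0x19601a6012d .nil .nil)) (.node 0x6980a26012d (.node 0x22e0798012d .nil .nil) .nil))) (.node 0x3fe000e0001 (.node 0x3780a180001 (.node 0x78602900001 (.node 0x3ec012d .nil .nil) (.node 301 .nil .nil)) (.node 0xa840001 (.node 0x27604cc012d .nil .nil) .nil)) (.node 0x1c00001 (.node 1 (.node 0x55a0a40012d .nil .nil) (.node 0x2460518012d .nil .nil)) (.node 0x44401b4012d (.node 0x18c012d .nil .nil) .nil))))))) (.node 0x6fc0001 (.node 0xd608a20001 (.node 0x6c60001 (.node 1 (.node 0x11403f60001 (.node 0x13001000001 (.node 0x78036a0001 (.node 0x348005a012d .nil .nil) (.node 301 .nil .nil)) (.node 0x5dc0001 (.node 301 .nil .nil) .nil)) (.node 1 (.node 1 (.node 0x4f40800012d .nil .nil) (.node 0x686012d .nil .nil)) (.node 0x1e2002a012d (.node 0x1960982012d .nil .nil) .nil))) (.node 1 (.node 0x1e601fc0001 (.node 1 (.node 0x75208b4012d .nil .nil) (.node 0x65a012d .nil .nil)) (.node 1 (.node 0x7220940012d .nil .nil) .nil)) (.node 1 (.node 470 (.node 0x174056a012d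 .nil .nil) (.node 0x4b00386012d .nil .nil)) (.node 0x8e095a012d (.node 0x334012d .nil .nil) .nil)))) (.node 68 (.node 1 (.node 0x7520001 (.node 0x6e200f00001 (.node 0x730012d .nil .nil) (.node 301 .nil .nil)) (.node 0x85a0001 (.node 0x3100056012d .nil .nil) .nil)) (.node 0x3a60001 (.node 1 (.node 0x20012d .nil .nil) (.node 301 .nil .nil)) (.node 0x44e02f6012d (.node 0x6240512012d .nil .nil) .nil))) (.node 0xa140001 (.node 0x52e0001 (.node 0x4208c60001 (.node 0x3080728012d .nil .nil) (.node 0x57e0074012d .nil .nil)) (.node 0x11e0001 (.node 0x58009b2012d .nil .nil) .nil)) (.node 324 (.node 0x52008420001 (.node 301 .nil .nil) (.node 301 .nil .nil)) (.node 0x1bc012d (.node 0x6e402ea012d .nil .nil) .nil))))) (.node 34 (.node 0x2a20001 (.node 1 (.node 0x21808980001 (.node 356 (.node 0x580708012d .nil .nil) (.node 0x4e40454012d .nil .nil)) (.node 0xc40001 (.node 0x9009b0012d .nil .nil) .nil)) (.node 0xa600001 (.node 0x522048c0001 (.node 0x70801ae012d .nil .nil) (.node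 301 .nil .nil)) (.node 0x2080214012d (.node 0x6aa0068012d .nil .nil) .nil))) (.node 0xa068c0001 (.node 0x9bc0001 (.node 0x23c035c0001 (.node 0x1fa084e012d .nil .nil) (.node 0x27c012d .nil .nil)) (.node 1 (.node 0x43e04c4012d .nil .nil) .nil)) (.node 1 (.node 1 (.node 0x302012d .nil .nil) (.node 0x5780a02012d .nil .nil)) (.node 0x56c078e012d (.node 0x1260462012d .nil .nil) .nil)))) (.node 1 (.node 0x5ba0001 (.node 204 (.node 1 (.node 0x2be06a0012d .nil .nil) (.node 0x7d80444012d .nil .nil)) (.node 548 (.node 0x72001b2012d .nil .nil) .nil)) (.node 0x7b00001 (.node 0x9ae0001 (.node 0x71c012d .nil .nil) (.node 301 .nil .nil)) (.node 0x530012d (.node 0x232001e012d .nil .nil) .nil))) (.node 158 (.node 0x2700001 (.node 0x1a603020001 (.node 0x7e00570012d .nil .nil) (.node 0x7320918012d .nil .nil)) (.node 0x5c407780001 (.node 0x62607ec012d .nil .nil) .nil)) (.node 0x320075e0001 (.node 1 (.node 0x3ba0568012d .nil .nil) (.node 0x7b20600012d .nil .nil)) (.node 0x8d0012d (.node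 0x7f807be012d .nil .nil) .nil)))))) (.node 0xa007540001 (.node 0x73a06dc0001 (.node 1 (.node 1 (.node 0x6ac08b60001 (.node 0x1d606640001 (.node 0x2b6027e012d .nil .nil) (.node 0x46e0012012d .nil .nil)) (.node 516 (.node 0x5000f2012d .nil .nil) .nil)) (.node 0x4800ae0001 (.node 0x1c0001 (.node 0x13a0830012d .nil .nil) (.node 0x1be08d4012d .nil .nil)) (.node 301 (.node 301 .nil .nil) .nil))) (.node 0x5d405fc0001 (.node 0x7de07500001 (.node 1 (.node 0x222012d .nil .nil) (.node 301 .nil .nil)) (.node 1 (.node 301 .nil .nil) .nil)) (.node 302 (.node 1 (.node 0x80012d .nil .nil) (.node 301 .nil .nil)) (.node 301 (.node 0x42e05da012d .nil .nil) .nil)))) (.node 78 (.node 1 (.node 0x5a0049c0001 (.node 382 (.node 301 .nil .nil) (.node 0x162012d .nil .nil)) (.node 540 (.node 301 .nil .nil) .nil)) (.node 0x1a402380001 (.node 0x16203080001 (.node 0x9c01dc012d .nil .nil) (.node 301 .nil .nil)) (.node 0x764061e012d (.node 301 .nil .nil) .nil))) (.node 0x6240001 (.node 0x20c06280001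 (.node 0x31a0a720001 (.node 0x5b80294012d .nil .nil) (.node 301 .nil .nil)) (.node 588 (.node 301 .nil .nil) .nil)) (.node 328 (.node 496 (.node 301 .nil .nil) (.node 0xb4017e012d .nil .nil)) (.node 0x31805d8012d (.node 0x304038e012d .nil .nil) .nil))))) (.node 40 (.node 0xc6099a0001 (.node 1 (.node 190 (.node 0x60e01a60001 (.node 0x42200e4012d .nil .nil) (.node 0x66c09a8012d .nil .nil)) (.node 1 (.node 301 .nil .nil) .nil)) (.node 282 (.node 0x5a208940001 (.node 301 .nil .nil) (.node 301 .nil .nil)) (.node 0x694012d (.node 0x52024c012d .nil .nil) .nil))) (.node 0x5a02300001 (.node 0x13401c60001 (.node 0x82006c0001 (.node 0x6700734012d .nil .nil) (.node 301 .nil .nil)) (.node 1 (.node 0x1c040c012d .nil .nil) .nil)) (.node 0x33205fa0001 (.node 0x5240001 (.node 0x62e012d .nil .nil) (.node 0x7980946012d .nil .nil)) (.node 301 (.node 301 .nil .nil) .nil)))) (.node 0x8720001 (.node 0x11e004a0001 (.node 0x3c80a420001 (.node 0x72805ce0001 (.node 0x14a07b8012d .nil .nil)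 (.node 0xc605dc012d .nil .nil)) (.node 556 (.node 301 .nil .nil) .nil)) (.node 0x2ce02340001 (.node 0x256092e0001 (.node 301 .nil .nil) (.node 0x3a012d .nil .nil)) (.node 0x75e01ba012d (.node 0x1a8012c012d .nil .nil) .nil))) (.node 164 (.node 0x74c07760001 (.node 0x1e00980001 (.node 0x114012d .nil .nil) (.node 301 .nil .nil)) (.node 0xa920001 (.node 0x2960360012d .nil .nil) .nil)) (.node 0x6ae08ae0001 (.node 506 (.node 0x98e012d .nil .nil) .nil) (.node 0x560012d (.node 0x16200a4012d .nil .nil) .nil))))))))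

/-- Data. -/
noncomputable def cand1 : Arr (ℕ) := (.node 0x5de0001 (.node 0x4d809fc0001 (.node 1 (.node 20 (.node 42 (.node 1 (.node 0x9220001 (.node 0x6380001 (.node 301 .nil .nil) (.node 0x21e06e2012d .nil .nil)) (.node 0x72c0001 (.node 0x4d00612012d .nil .nil) .nil)) (.node 0x52208160001 (.node 0xac0a760001 (.node 0x25603e2012d .nil .nil) (.node 0x11c07a4012d .nil .nil)) (.node 0x6de012d (.node 0x244003e012d .nil .nil) .nil))) (.node 0x7060a3a0001 (.node 0x3b800e00001 (.node 394 (.node 0x518026e012d .nil .nil) (.node 301 .nil .nil)) (.node 0x2d204b00001 (.node 0x6e4012d .nil .nil) .nil)) (.node 0x1ae08860001 (.node 466 (.node 0x2460316012d .nil .nil) (.node 0x758012d .nil .nil)) (.node 0x74804c0012d (.node 0x920704012d .nil .nil) .nil)))) (.node 0x17c01ba0001 (.node 0x45a01bc0001 (.node 0x5360001 (.node 0x2a60001 (.node 0x29202ca012d .nil .nil) (.node 0x34e012d .nil .nil)) (.node 0x6de06200001 (.node 0x1da007c012d .nil .nil) .nil)) (.node 0x53a06080001 (.node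 0x67000260001 (.node 0x1ac019c012d .nil .nil) (.node 0x780012d .nil .nil)) (.node 0x828012d (.node 0x952012d .nil .nil) .nil))) (.node 0x2080001 (.node 0x47e02400001 (.node 1 (.node 301 .nil .nil) (.node 0x31c08ee012d .nil .nil)) (.node 1 (.node 0x1940106012d .nil .nil) .nil)) (.node 1 (.node 488 (.node 0x184018a012d .nil .nil) (.node 301 .nil .nil)) (.node 0x36409ce012d (.node 0x6f00562012d .nil .nil) .nil))))) (.node 1 (.node 0x48e0001 (.node 1 (.node 1 (.node 354 (.node 0x3a6012d .nil .nil) (.node 0x1dc0706012d .nil .nil)) (.node 0x226068a0001 (.node 301 .nil .nil) .nil)) (.node 0x40c04480001 (.node 1 (.node 0x4d403e6012d .nil .nil) (.node 0x26e0a5e012d .nil .nil)) (.node 0x3fa0418012d (.node 0xa60012d .nil .nil) .nil))) (.node 0x1f20001 (.node 1 (.node 1 (.node 0x5500344012d .nil .nil) (.node 301 .nil .nil)) (.node 0x3960001 (.node 0x71e053c012d .nil .nil) .nil)) (.node 0x5a60a7e0001 (.node 0x45002b40001 (.node 0x400326012d .nil .nil) (.node 0x5bc0298012d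 .nil .nil)) (.node 0x48e012d (.node 0x5d00668012d .nil .nil) .nil)))) (.node 0x7f4012e0001 (.node 120 (.node 1 (.node 1 (.node 0x3700752012d .nil .nil) (.node 0x85a012d .nil .nil)) (.node 542 (.node 0xa6012d .nil .nil) .nil)) (.node 0x8a00001 (.node 0x48202e00001 (.node 0x6a606c8012d .nil .nil) (.node 0x5200690012d .nil .nil)) (.node 301 (.node 0x61206a2012d .nil .nil) .nil))) (.node 0x50604100001 (.node 0x20407000001 (.node 0x37205520001 (.node 301 .nil .nil) (.node 0x5b801ee012d .nil .nil)) (.node 1 (.node 0x3ae09a4012d .nil .nil) .nil)) (.node 0x22a0001 (.node 0x4c405560001 (.node 0x5260616012d .nil .nil) (.node 0x7f2019e012d .nil .nil)) (.node 0x800a0a012d (.node 0x2aa077c012d .nil .nil) .nil)))))) (.node 0x6d80001 (.node 0x6b606100001 (.node 46 (.node 0x35603a40001 (.node 1 (.node 344 (.node 301 .nil .nil) (.node 301 .nil .nil)) (.node 0x31c0001 (.node 301 .nil .nil) .nil)) (.node 0x7b40001 (.node 0x8880001 (.node 0x5380572012d .nil .nil) (.node 0x2dc03f8012d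 .nil .nil)) (.node 0x15606c6012d (.node 0x5bc0936012d .nil .nil) .nil))) (.node 0x13601f40001 (.node 0x3640a1e0001 (.node 0x15a08580001 (.node 0x4f60468012d .nil .nil) (.node 0x6880082012d .nil .nil)) (.node 1 (.node 0xcc0a3a012d .nil .nil) .nil)) (.node 0x3da05480001 (.node 1 (.node 0x3ee0618012d .nil .nil) (.node 0x7ea0474012d .nil .nil)) (.node 0x76c08fe012d (.node 0x76204b8012d .nil .nil) .nil)))) (.node 0x7e409840001 (.node 1 (.node 1 (.node 0x78e08100001 (.node 0xa44012d .nil .nil) (.node 0x6c402bc012d .nil .nil)) (.node 0x8e20001 (.node 301 .nil .nil) .nil)) (.node 0x30a0001 (.node 1 (.node 0x2fa04c6012d .nil .nil) (.node 301 .nil .nil)) (.node 0x4be00d2012d (.node 0x1560406012d .nil .nil) .nil))) (.node 0xa9a0001 (.node 1 (.node 0x4dc0001 (.node 301 .nil .nil) (.node 0x1c8012d .nil .nil)) (.node 0x4ee01060001 (.node 0x1480514012d .nil .nil) .nil)) (.node 1 (.node 1 (.node 0x1760306012d .nil .nil) (.node 0x2a4012d .nil .nil)) (.node 0x1860a0e012d (.node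 0x38a0346012d .nil .nil) .nil))))) (.node 0x72808660001 (.node 0x9320001 (.node 0xa2e0001 (.node 0x5e60001 (.node 362 (.node 0x77204dc012d .nil .nil) (.node 0x20605ac012d .nil .nil)) (.node 0x21602060001 (.node 0x6a012d .nil .nil) .nil)) (.node 276 (.node 0x45a07440001 (.node 301 .nil .nil) (.node 0x6ec084c012d .nil .nil)) (.node 0x6580030012d (.node 0x18c07b4012d .nil .nil) .nil))) (.node 1 (.node 1 (.node 410 (.node 0x44081a012d .nil .nil) (.node 301 .nil .nil)) (.node 572 (.node 0x11403d2012d .nil .nil) .nil)) (.node 0x5020aa40001 (.node 1 (.node 0x508012d .nil .nil) (.node 301 .nil .nil)) (.node 301 (.node 0x7e0012d .nil .nil) .nil)))) (.node 0x7e40001 (.node 128 (.node 206 (.node 0x34002440001 (.node 0x200011a012d .nil .nil) (.node 0x3a0a96012d .nil .nil)) (.node 0x8801ce0001 (.node 0x5700688012d .nil .nil) .nil)) (.node 0x3a80001 (.node 0x5809180001 (.node 0x62a012d .nil .nil) (.node 301 .nil .nil)) (.node 0x6f40748012d (.node 0xaa0012d .nil .nil) .nil)))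 (.node 1 (.node 0x7cc0001 (.node 0x2bc0001 (.node 0x6c002e6012d .nil .nil) (.node 0x7420968012d .nil .nil)) (.node 1 (.node 0x7b80824012d .nil .nil) .nil)) (.node 0xa4e0001 (.node 504 (.node 0x6f4012d .nil .nil) (.node 0x240140012d .nil .nil)) (.node 0x236012d (.node 0x286063a012d .nil .nil) .nil))))))) (.node 0x2b0073c0001 (.node 1 (.node 0x32a0001 (.node 0x2f601300001 (.node 0x67808a80001 (.node 176 (.node 0x8c20001 (.node 0x540082e012d .nil .nil) (.node 0x9d6012d .nil .nil)) (.node 0x59009560001 (.node 0x6da0086012d .nil .nil) .nil)) (.node 0x7640001 (.node 0x5d209680001 (.node 0x40c0542012d .nil .nil) (.node 0x3c801a0012d .nil .nil)) (.node 0x1c011c012d (.node 0x7d409ac012d .nil .nil) .nil))) (.node 0x13c07360001 (.node 214 (.node 398 (.node 301 .nil .nil) (.node 0x268050e012d .nil .nil)) (.node 0x56605d40001 (.node 0x3f4012d .nil .nil) .nil)) (.node 0x53e082e0001 (.node 0x7280001 (.node 0x87c012d .nil .nil) (.node 0x65e0832012d .nil .nil)) (.node 0x6120790012d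 (.node 0xa8012d .nil .nil) .nil)))) (.node 1 (.node 1 (.node 0x6440001 (.node 0x7f0092a0001 (.node 0x3d00724012d .nil .nil) (.node 0x18c09dc012d .nil .nil)) (.node 0x25a0001 (.node 0x2760808012d .nil .nil) .nil)) (.node 0x26e0001 (.node 1 (.node 0x1f60942012d .nil .nil) (.node 0x1d80014012d .nil .nil)) (.node 301 (.node 0x40012d .nil .nil) .nil))) (.node 0x21800160001 (.node 230 (.node 0x2006660001 (.node 0xae052a012d .nil .nil) (.node 301 .nil .nil)) (.node 0x38409f80001 (.node 0x32a0598012d .nil .nil) .nil)) (.node 1 (.node 1 (.node 0x7a04fc012d .nil .nil) (.node 301 .nil .nil)) (.node 0xfc09f2012d (.node 301 .nil .nil) .nil))))) (.node 0x1f6029c0001 (.node 0x66009580001 (.node 0xf400ac0001 (.node 0x72a0001 (.node 358 (.node 301 .nil .nil) (.node 0x40640012d .nil .nil)) (.node 0x1b60001 (.node 301 .nil .nil) .nil)) (.node 274 (.node 444 (.node 0x156012d .nil .nil) (.node 0x48202c2012d .nil .nil)) (.node 301 (.node 301 .nil .nil) .nil))) (.node 0x5e809c20001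 (.node 0xf60001 (.node 1 (.node 0x8e0046012d .nil .nil) (.node 301 .nil .nil)) (.node 0x4d607020001 (.node 0x4f6083c012d .nil .nil) .nil)) (.node 0x56005bc0001 (.node 0x18403700001 (.node 0x9fa012d .nil .nil) (.node 0x24200d6012d .nil .nil)) (.node 301 (.node 301 .nil .nil) .nil)))) (.node 0x3fc02d80001 (.node 0x58409ee0001 (.node 0x2e6017c0001 (.node 0xd40001 (.node 0x3fa012d .nil .nil) (.node 0x35807a2012d .nil .nil)) (.node 0x1e600780001 (.node 0x6e805ea012d .nil .nil) .nil)) (.node 1 (.node 1 (.node 0x19205b4012d .nil .nil) (.node 0x53a000c012d .nil .nil)) (.node 0xce07fc012d (.node 301 .nil .nil) .nil))) (.node 0x5c05820001 (.node 1 (.node 0x27a09440001 (.node 301 .nil .nil) (.node 301 .nil .nil)) (.node 0x172047c0001 (.node 0x7fa0900012d .nil .nil) .nil)) (.node 0x39e0001 (.node 1 (.node 0x300074e012d .nil .nil) (.node 0x528047a012d .nil .nil)) (.node 0x604025c012d (.node 0x5000268012d .nil .nil) .nil)))))) (.node 14 (.node 0x8400001 (.node 0x66209f40001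 (.node 100 (.node 0x74807560001 (.node 350 (.node 301 .nil .nil) (.node 301 .nil .nil)) (.node 0x6c20001 (.node 0x7e4012a012d .nil .nil) .nil)) (.node 1 (.node 1 (.node 0xa42012d .nil .nil) (.node 0x37a0660012d .nil .nil)) (.node 0x980a82012d (.node 0x71602ba012d .nil .nil) .nil))) (.node 1 (.node 0x45a08ba0001 (.node 0x54208f40001 (.node 301 .nil .nil) (.node 0x4920818012d .nil .nil)) (.node 570 (.node 0x96012d .nil .nil) .nil)) (.node 0x36a083a0001 (.node 476 (.node 0x4f802f4012d .nil .nil) (.node 0x73a0402012d .nil .nil)) (.node 301 (.node 0x35a012d .nil .nil) .nil)))) (.node 1 (.node 0x42004de0001 (.node 1 (.node 0x3e60001 (.node 0x9b6012d .nil .nil) (.node 0x11e09f6012d .nil .nil)) (.node 1 (.node 0x4780200012d .nil .nil) .nil)) (.node 0x88e0001 (.node 0x2fa04b20001 (.node 301 .nil .nil) (.node 0x74a012d .nil .nil)) (.node 0x4b800ee012d (.node 301 .nil .nil) .nil))) (.node 152 (.node 0x77806d00001 (.node 0x4120001 (.node 0x35c0004012d .nil .nil) (.node 0x31c012d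 .nil .nil)) (.node 0x370019e0001 (.node 0x37e012d .nil .nil) .nil)) (.node 0x29002ee0001 (.node 0x4800001 (.node 0x368018e012d .nil .nil) (.node 0x66c012d .nil .nil)) (.node 0x3ce03ea012d (.node 0x222031e012d .nil .nil) .nil))))) (.node 0x5160001 (.node 1 (.node 0x69e0001 (.node 0x27806860001 (.node 368 (.node 0x3040248012d .nil .nil) (.node 0x2ba03be012d .nil .nil)) (.node 1 (.node 0x1200028012d .nil .nil) .nil)) (.node 0x2d602960001 (.node 0x16800540001 (.node 0x54a012d .nil .nil) (.node 0x3c0718012d .nil .nil)) (.node 0x322000a012d (.node 301 .nil .nil) .nil))) (.node 1 (.node 0x10016e0001 (.node 412 (.node 0x174012d .nil .nil) (.node 0x5a027a012d .nil .nil)) (.node 1 (.node 301 .nil .nil) .nil)) (.node 0x77a05ae0001 (.node 0x40208da0001 (.node 301 .nil .nil) (.node 0x396041e012d .nil .nil)) (.node 0x2040230012d (.node 0x4ac012d .nil .nil) .nil)))) (.node 0x7ac0001 (.node 0x43e09620001 (.node 1 (.node 1 (.node 0x7ee0774012d .nil .nil) (.node 301 .nil .nil))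 (.node 0x1ba045c0001 (.node 0x2460a12012d .nil .nil) .nil)) (.node 1 (.node 0x49407e00001 (.node 0x67605d6012d .nil .nil) (.node 0x6e036a012d .nil .nil)) (.node 0x2a8029c012d (.node 0x628067a012d .nil .nil) .nil))) (.node 1 (.node 0x79002c00001 (.node 432 (.node 301 .nil .nil) (.node 301 .nil .nil)) (.node 0x36e027c0001 (.node 0x4420966012d .nil .nil) .nil)) (.node 0x74804560001 (.node 0x4b60001 (.node 301 .nil .nil) .nil) (.node 301 (.node 301 .nil .nil) .nil))))))))

/-- Data. -/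
noncomputable def cand2 : Arr (ℕ) := (.node 1 (.node 0x158002a0001 (.node 0x51c0001 (.node 0x6f003ba0001 (.node 1 (.node 1 (.node 0x30e0001 (.node 0x706085e0001 (.node 301 .nil .nil) (.node 0x50403c6012d .nil .nil)) (.node 0x17004d80001 (.node 0x472012d .nil .nil) .nil)) (.node 1 (.node 0xf8077c0001 (.node 0x7380a64012d .nil .nil) (.node 0x7360274012d .nil .nil)) (.node 0x42c094e012d (.node 0x18012d .nil .nil) .nil))) (.node 0x41a08280001 (.node 0x100027e0001 (.node 0x436055c0001 (.node 301 .nil .nil) (.node 301 .nil .nil)) (.node 1 (.node 301 .nil .nil) .nil)) (.node 0xc00001 (.node 0x61e01c80001 (.node 0x64800b8012d .nil .nil) (.node 0x66007cc012d .nil .nil)) (.node 301 (.node 0x2020a78012d .nil .nil) .nil)))) (.node 1 (.node 112 (.node 0x2d60001 (.node 0x2ba09140001 (.node 0x46401ac012d .nil .nil) (.node 0x3e200a0012d .nil .nil)) (.node 0x75c03840001 (.node 0x3e201a8012d .nil .nil) .nil)) (.node 1 (.node 0x79603e80001 (.node 0x23e00ac012d .nil .nil) (.node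 301 .nil .nil)) (.node 0x3260932012d (.node 0x2b60740012d .nil .nil) .nil))) (.node 0x1c807340001 (.node 0x1d00001 (.node 0x1b204440001 (.node 0x3d6015a012d .nil .nil) (.node 0xa800be012d .nil .nil)) (.node 0x5ac024a0001 (.node 0x10c0842012d .nil .nil) .nil)) (.node 1 (.node 0x396056c0001 (.node 0x5fc02dc012d .nil .nil) (.node 0x2d40308012d .nil .nil)) (.node 301 (.node 0x24804a4012d .nil .nil) .nil))))) (.node 1 (.node 1 (.node 0x1d6098a0001 (.node 0x12208740001 (.node 0x32c0001 (.node 0xf4012d .nil .nil) (.node 301 .nil .nil)) (.node 518 (.node 0x6f8067e012d .nil .nil) .nil)) (.node 0x2b206820001 (.node 0x3803120001 (.node 0x78c04ea012d .nil .nil) (.node 0x858012d .nil .nil)) (.node 0x2da0848012d (.node 0x4fa0198012d .nil .nil) .nil))) (.node 0x2220001 (.node 0x860001 (.node 1 (.node 0x5020186012d .nil .nil) (.node 301 .nil .nil)) (.node 1 (.node 0x1920246012d .nil .nil) .nil)) (.node 0x9040001 (.node 0x71805c40001 (.node 301 .nil .nil) (.node 0xf20744012d .nil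 .nil)) (.node 0x7fa0646012d (.node 301 .nil .nil) .nil)))) (.node 82 (.node 0x5a806a00001 (.node 200 (.node 0x6d205460001 (.node 0x6cc0a8c012d .nil .nil) (.node 0x4e8023c012d .nil .nil)) (.node 0x7c077e0001 (.node 0x78c0048012d .nil .nil) .nil)) (.node 0x75204a20001 (.node 0x3ce0001 (.node 301 .nil .nil) (.node 0x6d00504012d .nil .nil)) (.node 301 (.node 0x6360432012d .nil .nil) .nil))) (.node 0x34200b80001 (.node 1 (.node 1 (.node 0x6fa01e4012d .nil .nil) (.node 0x6be037a012d .nil .nil)) (.node 0x6c6017e0001 (.node 0x14403d0012d .nil .nil) .nil)) (.node 0x69c08ce0001 (.node 0x38c0001 (.node 0x21c05be012d .nil .nil) (.node 0x4cc0506012d .nil .nil)) (.node 0x4b4012d (.node 301 .nil .nil) .nil)))))) (.node 0x23604be0001 (.node 1 (.node 48 (.node 98 (.node 1 (.node 0x1b800b20001 (.node 0x8a0012d .nil .nil) (.node 301 .nil .nil)) (.node 1 (.node 0x7ca012d .nil .nil) .nil)) (.node 0x62800e60001 (.node 0x70800880001 (.node 0x184012d .nil .nil) (.node 301 .nil .nil))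 (.node 0x6ac02a2012d (.node 0x2e00a90012d .nil .nil) .nil))) (.node 0x16203640001 (.node 0x52008380001 (.node 0x9b80001 (.node 0x534012d .nil .nil) (.node 301 .nil .nil)) (.node 1 (.node 301 .nil .nil) .nil)) (.node 298 (.node 0x9880001 (.node 0x46e0970012d .nil .nil) (.node 301 .nil .nil)) (.node 0x6d400ba012d (.node 301 .nil .nil) .nil)))) (.node 0x20001 (.node 1 (.node 0x200001 (.node 378 (.node 0x75008ea012d .nil .nil) (.node 0x380650012d .nil .nil)) (.node 0x44402ba0001 (.node 0x1160a50012d .nil .nil) .nil)) (.node 0xba065a0001 (.node 1 (.node 0x2c60516012d .nil .nil) (.node 0x2240126012d .nil .nil)) (.node 0xd20440012d (.node 301 .nil .nil) .nil))) (.node 0x2a00001 (.node 1 (.node 424 (.node 301 .nil .nil) (.node 301 .nil .nil)) (.node 0x15808be0001 (.node 0x48803c8012d .nil .nil) .nil)) (.node 0x118007a0001 (.node 0x2100001 (.node 301 .nil .nil) (.node 301 .nil .nil)) (.node 0x39c0898012d (.node 0x908012d .nil .nil) .nil))))) (.node 0x7e60001 (.node 62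 (.node 0x1b007080001 (.node 186 (.node 0x6f201980001 (.node 0x69607ee012d .nil .nil) (.node 0x82c012d .nil .nil)) (.node 0x10a028c0001 (.node 301 .nil .nil) .nil)) (.node 278 (.node 448 (.node 0x3b40a66012d .nil .nil) (.node 0x77e012d .nil .nil)) (.node 0x3e40144012d (.node 0x78c09be012d .nil .nil) .nil))) (.node 1 (.node 0xa9c0001 (.node 0x738004e0001 (.node 0xa48012d .nil .nil) (.node 0x112035e012d .nil .nil)) (.node 574 (.node 301 .nil .nil) .nil)) (.node 312 (.node 0x6e80001 (.node 0xd807ea012d .nil .nil) (.node 0x5a80558012d .nil .nil)) (.node 0xc603b6012d (.node 0x392072e012d .nil .nil) .nil)))) (.node 0x3f00001 (.node 130 (.node 1 (.node 390 (.node 0x43a012d .nil .nil) (.node 0x202a8012d .nil .nil)) (.node 0x41006480001 (.node 301 .nil .nil) .nil)) (.node 290 (.node 1 (.node 0x40c0288012d .nil .nil) (.node 0x33a05d0012d .nil .nil)) (.node 0x750015e012d (.node 301 .nil .nil) .nil))) (.node 1 (.node 248 (.node 0x7fc02780001 (.node 0x794063e012d .nil .nil)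 (.node 0x1a60782012d .nil .nil)) (.node 0x17801040001 (.node 0xb602aa012d .nil .nil) .nil)) (.node 0x16007ec0001 (.node 0x57001580001 (.node 301 .nil .nil) (.node 0x3c80060012d .nil .nil)) (.node 301 (.node 0x738012d .nil .nil) .nil))))))) (.node 0x54c0001 (.node 1 (.node 0x41405e40001 (.node 0x1100001 (.node 0x8b40001 (.node 0x49002c20001 (.node 1 (.node 301 .nil .nil) (.node 301 .nil .nil)) (.node 0x53c00be0001 (.node 0x3720088012d .nil .nil) .nil)) (.node 0x62c06040001 (.node 0x8fa0001 (.node 0xa028a012d .nil .nil) (.node 0x11e012d .nil .nil)) (.node 0x5800256012d (.node 0x1c80a08012d .nil .nil) .nil))) (.node 0x61806160001 (.node 0x7d00001 (.node 0x1cc0001 (.node 0x9a09da012d .nil .nil) (.node 0x73606aa012d .nil .nil)) (.node 0x40022e0001 (.node 301 .nil .nil) .nil)) (.node 0x4580001 (.node 0xa4036e0001 (.node 0x1980998012d .nil .nil) (.node 0x746069c012d .nil .nil)) (.node 0x3060022012d (.node 0x31e00ce012d .nil .nil) .nil)))) (.node 70 (.node 114 (.node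 1 (.node 0x61a06d40001 (.node 0x6b609d4012d .nil .nil) (.node 0x3d2004e012d .nil .nil)) (.node 532 (.node 0x69401fe012d .nil .nil) .nil)) (.node 1 (.node 0xd80001 (.node 0x208012d .nil .nil) (.node 0x22c012d .nil .nil)) (.node 301 (.node 301 .nil .nil) .nil))) (.node 0x42e0001 (.node 0x18a05940001 (.node 416 (.node 301 .nil .nil) (.node 0x920012d .nil .nil)) (.node 584 (.node 0x3c00746012d .nil .nil) .nil)) (.node 0xe809400001 (.node 0x55a01a00001 (.node 0x478012d .nil .nil) (.node 301 .nil .nil)) (.node 0x7b80300012d (.node 0x1c801f4012d .nil .nil) .nil))))) (.node 0x8a02160001 (.node 56 (.node 1 (.node 1 (.node 1 (.node 0x2600792012d .nil .nil) (.node 0x4e208f4012d .nil .nil)) (.node 522 (.node 0x394030c012d .nil .nil) .nil)) (.node 0x424095e0001 (.node 446 (.node 0x5360488012d .nil .nil) (.node 0xde0270012d .nil .nil)) (.node 0x17a012d (.node 0x2940586012d .nil .nil) .nil))) (.node 0x13804860001 (.node 0x51205a60001 (.node 0x5dc037a0001 (.node 0x234012d .nil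 .nil) (.node 0x2f805fe012d .nil .nil)) (.node 0xa460001 (.node 0x2d404ca012d .nil .nil) .nil)) (.node 0x3440001 (.node 0x6a60001 (.node 0x45a09d2012d .nil .nil) (.node 0x9400b2012d .nil .nil)) (.node 301 (.node 0x8dc012d .nil .nil) .nil)))) (.node 0x43804960001 (.node 0x9806300001 (.node 0x66001e60001 (.node 0x94a0001 (.node 0x45a0810012d .nil .nil) (.node 301 .nil .nil)) (.node 550 (.node 0x16c0934012d .nil .nil) .nil)) (.node 0x3b603000001 (.node 0x57602e80001 (.node 301 .nil .nil) (.node 0x3820632012d .nil .nil)) (.node 301 (.node 301 .nil .nil) .nil))) (.node 0x6e002760001 (.node 0x1520001 (.node 430 (.node 301 .nil .nil) (.node 0x224012d .nil .nil)) (.node 0x7d80a7c0001 (.node 0x3e60a72012d .nil .nil) .nil)) (.node 0x7180a2a0001 (.node 1 (.node 0x41e0424012d .nil .nil) (.node 0x67206f6012d .nil .nil)) (.node 301 (.node 0x1f2012d .nil .nil) .nil)))))) (.node 0x57c0a800001 (.node 1 (.node 0x6ca0001 (.node 102 (.node 0x7dc0001 (.node 0x17a08c00001 (.node 301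 .nil .nil) (.node 0x86010e012d .nil .nil)) (.node 0x5a041c0001 (.node 0x6f80062012d .nil .nil) .nil)) (.node 1 (.node 0x8260001 (.node 301 .nil .nil) (.node 0x1fa0328012d .nil .nil)) (.node 0x464054c012d (.node 0x5bc012d .nil .nil) .nil))) (.node 0x10c074e0001 (.node 222 (.node 0x5e405040001 (.node 0x126067c012d .nil .nil) (.node 0x6740244012d .nil .nil)) (.node 0x49605660001 (.node 0x1860788012d .nil .nil) .nil)) (.node 0x4d00001 (.node 0x32601da0001 (.node 301 .nil .nil) (.node 301 .nil .nil)) (.node 0x33200de012d (.node 0x3408ca012d .nil .nil) .nil)))) (.node 1 (.node 0x746004c0001 (.node 1 (.node 0x776062c0001 (.node 301 .nil .nil) (.node 301 .nil .nil)) (.node 1 (.node 0x63605fa012d .nil .nil) .nil)) (.node 1 (.node 0x6900001 (.node 0x3d60370012d .nil .nil) (.node 0x57808ce012d .nil .nil)) (.node 0x7de000e012d (.node 0x546090a012d .nil .nil) .nil))) (.node 0x5ae07f60001 (.node 0x66400840001 (.node 0x53c08600001 (.node 0x1c2012d .nil .nil) (.node 0x956012d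 .nil .nil)) (.node 0x1f405ac0001 (.node 0x1e20a9e012d .nil .nil) .nil)) (.node 0x19a00da0001 (.node 1 (.node 0x7120376012d .nil .nil) (.node 301 .nil .nil)) (.node 301 (.node 0x7d00a16012d .nil .nil) .nil))))) (.node 0x64602840001 (.node 0x9e20001 (.node 0x1e4000a0001 (.node 0x46e020a0001 (.node 0x7b8086a0001 (.node 0x3ce0382012d .nil .nil) (.node 301 .nil .nil)) (.node 0x37e0001 (.node 0x72a099e012d .nil .nil) .nil)) (.node 1 (.node 0x4fa0001 (.node 0x576032e012d .nil .nil) (.node 0x5de02b6012d .nil .nil)) (.node 0x1ec04e4012d (.node 0x58a0180012d .nil .nil) .nil))) (.node 0x6a80001 (.node 226 (.node 1 (.node 301 .nil .nil) (.node 0x4fe0720012d .nil .nil)) (.node 576 (.node 0x73401a4012d .nil .nil) .nil)) (.node 320 (.node 1 (.node 301 .nil .nil) (.node 0xe201b6012d .nil .nil)) (.node 301 (.node 301 .nil .nil) .nil)))) (.node 1 (.node 0x79401760001 (.node 1 (.node 0xa6014c0001 (.node 0x5e40092012d .nil .nil) (.node 0x3480158012d .nil .nil)) (.node 558 (.node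 0x20e0620012d .nil .nil) .nil)) (.node 0x54208680001 (.node 0x74a05ca0001 (.node 0x2f8001a012d .nil .nil) (.node 0x26a051a012d .nil .nil)) (.node 301 (.node 0x79c08c0012d .nil .nil) .nil))) (.node 1 (.node 0x68c057e0001 (.node 0x18c0001 (.node 0x3402c0012d .nil .nil) (.node 301 .nil .nil)) (.node 596 (.node 0x6012d .nil .nil) .nil)) (.node 1 (.node 0xa00001 (.node 301 .nil .nil) .nil) (.node 0x7ac012d (.node 0x86c012d .nil .nil) .nil))))))))

/-- Data. -/
noncomputable def cand3 : Arr (ℕ) := (.node 1 (.node 2 (.node 0x622090e0001 (.node 22 (.node 44 (.node 0x6620001 (.node 1 (.node 1 (.node 301 .nil .nil) (.node 0x3aa04f8012d .nil .nil)) (.node 0x37401420001 (.node 0x73801ca012d .nil .nil) .nil)) (.node 0x8d00001 (.node 0x1720a160001 (.node 0x8b2012d .nil .nil) (.node 301 .nil .nil)) (.node 0x150090e012d (.node 0x23002fe012d .nil .nil) .nil))) (.node 136 (.node 0x670012c0001 (.node 0x47006c00001 (.node 0x11e01b8012d .nil .nil) (.node 0x16205ca012d .nil .nil))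 (.node 0x6bc059a0001 (.node 0x1e804ce012d .nil .nil) .nil)) (.node 0x122070a0001 (.node 0x76009ac0001 (.node 0x1e803aa012d .nil .nil) (.node 0x1520834012d .nil .nil)) (.node 0x35e09de012d (.node 0x4640354012d .nil .nil) .nil)))) (.node 1 (.node 0x23209b40001 (.node 0x44a0001 (.node 0x46a09aa0001 (.node 0x65208ac012d .nil .nil) (.node 0x5400a54012d .nil .nil)) (.node 1 (.node 301 .nil .nil) .nil)) (.node 0x748060e0001 (.node 1 (.node 0x6520624012d .nil .nil) (.node 0x3d20a8a012d .nil .nil)) (.node 0x71802da012d (.node 301 .nil .nil) .nil))) (.node 0x4ca01740001 (.node 0x63401ec0001 (.node 1 (.node 0x726049a012d .nil .nil) (.node 0x212012d .nil .nil)) (.node 578 (.node 0x5500696012d .nil .nil) .nil)) (.node 0x55e06ce0001 (.node 490 (.node 0x56022e012d .nil .nil) (.node 0x5d2075c012d .nil .nil)) (.node 0x3be02ae012d (.node 0x72012d .nil .nil) .nil))))) (.node 30 (.node 0x8540001 (.node 0x59c07240001 (.node 0x60001 (.node 0x7400620001 (.node 301 .nil .nil) (.node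 301 .nil .nil)) (.node 0x17404aa0001 (.node 301 .nil .nil) .nil)) (.node 272 (.node 1 (.node 0x1a6008a012d .nil .nil) (.node 301 .nil .nil)) (.node 0x4f603a0012d (.node 0x3d60528012d .nil .nil) .nil))) (.node 0x48804980001 (.node 0x1c202660001 (.node 0x78c0001 (.node 0x69e03d6012d .nil .nil) (.node 0x374012d .nil .nil)) (.node 0x670093c0001 (.node 0x65804aa012d .nil .nil) .nil)) (.node 1 (.node 0x266024e0001 (.node 0x1c403d4012d .nil .nil) (.node 0x5700778012d .nil .nil)) (.node 0xfe06d0012d (.node 0x31806d6012d .nil .nil) .nil)))) (.node 0x84081a0001 (.node 1 (.node 0x4c8074c0001 (.node 1 (.node 0xca09d8012d .nil .nil) (.node 0x64801ce012d .nil .nil)) (.node 0x8840001 (.node 0x6e6012d .nil .nil) .nil)) (.node 1 (.node 0x51c09f60001 (.node 0x6f000ec012d .nil .nil) (.node 0x4200a68012d .nil .nil)) (.node 0x34a012d (.node 301 .nil .nil) .nil))) (.node 0x6aa00040001 (.node 244 (.node 0x6a20aa60001 (.node 301 .nil .nil) (.node 0x5680878012d .nil .nil)) (.node 0x66c0001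 (.node 0x26205d2012d .nil .nil) .nil)) (.node 1 (.node 0x9500001 (.node 301 .nil .nil) (.node 0x7da06ae012d .nil .nil)) (.node 0x522012d (.node 0x36206e8012d .nil .nil) .nil)))))) (.node 0x2b803b40001 (.node 0x2920001 (.node 0xb405ee0001 (.node 1 (.node 0x7d208800001 (.node 346 (.node 0x2e6017c012d .nil .nil) (.node 0x4ce0636012d .nil .nil)) (.node 0x7b601940001 (.node 0x814012d .nil .nil) .nil)) (.node 0x1a805b40001 (.node 0x3fa0001 (.node 301 .nil .nil) (.node 301 .nil .nil)) (.node 301 (.node 0x490083a012d .nil .nil) .nil))) (.node 0x5a01900001 (.node 0x5be0001 (.node 0x7b20001 (.node 0xf4079e012d .nil .nil) (.node 301 .nil .nil)) (.node 1 (.node 0x78a012d .nil .nil) .nil)) (.node 0x9b20001 (.node 1 (.node 0xb4057c012d .nil .nil) (.node 0x5c6045c012d .nil .nil)) (.node 0x676012d (.node 0x5060856012d .nil .nil) .nil)))) (.node 74 (.node 1 (.node 0xcc04c00001 (.node 0x1ea0001 (.node 0x812012d .nil .nil) (.node 0x24a0438012d .nil .nil)) (.node 1 (.node 0x98098a012d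 .nil .nil) .nil)) (.node 286 (.node 1 (.node 0x5320362012d .nil .nil) (.node 0x38e00a2012d .nil .nil)) (.node 0xe8012d (.node 301 .nil .nil) .nil))) (.node 1 (.node 236 (.node 0x5e6026c0001 (.node 0x68c012d .nil .nil) (.node 0x32a048a012d .nil .nil)) (.node 1 (.node 0x1b60876012d .nil .nil) .nil)) (.node 1 (.node 0x7c03360001 (.node 0x5c40826012d .nil .nil) (.node 0x75e084a012d .nil .nil)) (.node 0x1600596012d (.node 0x100012d .nil .nil) .nil))))) (.node 38 (.node 0x13204240001 (.node 0x40a00bc0001 (.node 0x5f40001 (.node 0x3f605620001 (.node 0x5c2087e012d .nil .nil) (.node 0x14603a8012d .nil .nil)) (.node 1 (.node 0xe800fc012d .nil .nil) .nil)) (.node 0x78a0001 (.node 0x2da038e0001 (.node 301 .nil .nil) (.node 0x5f20090012d .nil .nil)) (.node 0x3680232012d (.node 0x7ac024a012d .nil .nil) .nil))) (.node 0x2005540001 (.node 1 (.node 0x20c0001 (.node 0x61408a8012d .nil .nil) (.node 0x2560038012d .nil .nil)) (.node 0x62600ce0001 (.node 0x2900166012d .nil .nil) .nil))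 (.node 314 (.node 0x7e0090a0001 (.node 301 .nil .nil) (.node 0x5d4036c012d .nil .nil)) (.node 0x1ec06ba012d (.node 0x880450012d .nil .nil) .nil)))) (.node 0x4402140001 (.node 0x21a00420001 (.node 208 (.node 1 (.node 0x506024e012d .nil .nil) (.node 0x6dc04e0012d .nil .nil)) (.node 554 (.node 0x4d2012d .nil .nil) .nil)) (.node 0x26c08cc0001 (.node 0x2d603340001 (.node 301 .nil .nil) (.node 301 .nil .nil)) (.node 301 (.node 0x6e60310012d .nil .nil) .nil))) (.node 0x21c08080001 (.node 250 (.node 1 (.node 0x66029a012d .nil .nil) (.node 301 .nil .nil)) (.node 1 (.node 301 .nil .nil) .nil)) (.node 340 (.node 0x8240001 (.node 0x49002d4012d .nil .nil) (.node 0x59e0368012d .nil .nil)) (.node 0x24c03f6012d (.node 0x740902012d .nil .nil) .nil))))))) (.node 6 (.node 0x12603780001 (.node 0x2500001 (.node 0x74604360001 (.node 0x7da0001 (.node 0x604003c0001 (.node 1 (.node 0x682040a012d .nil .nil) (.node 0x2be08f2012d .nil .nil)) (.node 0x5b40a900001 (.node 0x2d0012d .nil .nil)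 .nil)) (.node 0xca06540001 (.node 0x7e804c40001 (.node 0x2940118012d .nil .nil) (.node 301 .nil .nil)) (.node 0x1fe051c012d (.node 0x2e8036e012d .nil .nil) .nil))) (.node 0x18808d60001 (.node 1 (.node 0x4b408360001 (.node 0x64e02b0012d .nil .nil) (.node 0x2e012d .nil .nil)) (.node 0x7a80001 (.node 0x43c00d4012d .nil .nil) .nil)) (.node 1 (.node 0x126057a0001 (.node 301 .nil .nil) (.node 0x2b8020c012d .nil .nil)) (.node 0x41a0176012d (.node 301 .nil .nil) .nil)))) (.node 1 (.node 0x4b409c40001 (.node 0x5be05860001 (.node 0x2040001 (.node 0x2ea04e2012d .nil .nil) (.node 0x2460456012d .nil .nil)) (.node 0x7800001 (.node 0x210037c012d .nil .nil) .nil)) (.node 1 (.node 0x34e0001 (.node 301 .nil .nil) (.node 0x7c4012d .nil .nil)) (.node 301 (.node 0x2b60582012d .nil .nil) .nil))) (.node 1 (.node 0x112005c0001 (.node 418 (.node 0x602056e012d .nil .nil) (.node 0x6606ea012d .nil .nil)) (.node 0x59801de0001 (.node 0x6aa07e2012d .nil .nil) .nil)) (.node 0x35c04a40001 (.node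 1 (.node 0xfc07ce012d .nil .nil) (.node 0x7f6055c012d .nil .nil)) (.node 301 (.node 0x3ae01b0012d .nil .nil) .nil))))) (.node 0x5320001 (.node 1 (.node 1 (.node 0x46e07620001 (.node 0x3220001 (.node 0x29e012d .nil .nil) (.node 0x65001e2012d .nil .nil)) (.node 1 (.node 301 .nil .nil) .nil)) (.node 0x1680001 (.node 0x11407060001 (.node 0x46805a0012d .nil .nil) (.node 301 .nil .nil)) (.node 301 (.node 0x20409a6012d .nil .nil) .nil))) (.node 0x5ec01f80001 (.node 1 (.node 406 (.node 0x3ec0a98012d .nil .nil) (.node 0x2b801fc012d .nil .nil)) (.node 0x13e07b60001 (.node 0x33205b6012d .nil .nil) .nil)) (.node 306 (.node 1 (.node 0xbc03c4012d .nil .nil) (.node 0x1f6012d .nil .nil)) (.node 0x7a204a2012d (.node 0x3b0063c012d .nil .nil) .nil)))) (.node 0x1b80a6e0001 (.node 122 (.node 1 (.node 384 (.node 0x6bc02e4012d .nil .nil) (.node 0x2160490012d .nil .nil)) (.node 552 (.node 0xb605f0012d .nil .nil) .nil)) (.node 0x7a60001 (.node 0x1960001 (.node 0x53c085e012d .nil .nil)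 (.node 0x13a04b2012d .nil .nil)) (.node 0x7b4053a012d (.node 301 .nil .nil) .nil))) (.node 1 (.node 1 (.node 0x64000520001 (.node 0x4140aa6012d .nil .nil) (.node 301 .nil .nil)) (.node 0xb4002e0001 (.node 0x25c0770012d .nil .nil) .nil)) (.node 0x1209a40001 (.node 500 (.node 0x62c080e012d .nil .nil) (.node 0x3ee012d .nil .nil)) (.node 0x6360816012d (.node 0x2d4033e012d .nil .nil) .nil)))))) (.node 1 (.node 0x4f604340001 (.node 1 (.node 0x3a003b60001 (.node 0x1d804840001 (.node 0x23405600001 (.node 0x49002d8012d .nil .nil) (.node 301 .nil .nil)) (.node 0x56208960001 (.node 0x7fa032c012d .nil .nil) .nil)) (.node 0x18a0001 (.node 1 (.node 0x1de014a012d .nil .nil) (.node 0x790023a012d .nil .nil)) (.node 301 (.node 301 .nil .nil) .nil))) (.node 146 (.node 0x3fe09e80001 (.node 0x26201d40001 (.node 0x320984012d .nil .nil) (.node 0x41c01c4012d .nil .nil)) (.node 0x554028e0001 (.node 0x506022a012d .nil .nil) .nil)) (.node 0x7a609c00001 (.node 478 (.node 0x5c4042e012d .nil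 .nil) (.node 0x394026c012d .nil .nil)) (.node 301 (.node 0x4a808da012d .nil .nil) .nil)))) (.node 80 (.node 0x9380001 (.node 198 (.node 1 (.node 0x39609aa012d .nil .nil) (.node 301 .nil .nil)) (.node 0x4da0001 (.node 0x420050a012d .nil .nil) .nil)) (.node 0x6c000500001 (.node 0x24000d00001 (.node 301 .nil .nil) (.node 0x46802c8012d .nil .nil)) (.node 0x40603de012d (.node 0x726012d .nil .nil) .nil))) (.node 0x33c00ea0001 (.node 240 (.node 428 (.node 0x47808c6012d .nil .nil) (.node 0x260041a012d .nil .nil)) (.node 1 (.node 0x10a04d4012d .nil .nil) .nil)) (.node 330 (.node 0x2800001 (.node 0x1fa0350012d .nil .nil) (.node 0x6b200dc012d .nil .nil)) (.node 0x20a04be012d (.node 0x47a0a84012d .nil .nil) .nil))))) (.node 0x5f408000001 (.node 1 (.node 0x8005b20001 (.node 0x8b20001 (.node 370 (.node 0x10e0a3e012d .nil .nil) (.node 301 .nil .nil)) (.node 526 (.node 0xa2c012d .nil .nil) .nil)) (.node 0x86c0001 (.node 0x32204600001 (.node 301 .nil .nil) (.node 0x2580776012d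 .nil .nil)) (.node 301 (.node 301 .nil .nil) .nil))) (.node 0x316070e0001 (.node 0x5080001 (.node 1 (.node 301 .nil .nil) (.node 0x1da080c012d .nil .nil)) (.node 1 (.node 301 .nil .nil) .nil)) (.node 0x66e03d20001 (.node 0x34c09900001 (.node 0x1d20546012d .nil .nil) (.node 0x2000994012d .nil .nil)) (.node 0x6bc0442012d (.node 301 .nil .nil) .nil)))) (.node 1 (.node 0x4560a960001 (.node 0x8de0001 (.node 0x4880001 (.node 0x4f20084012d .nil .nil) (.node 0x7de012d .nil .nil)) (.node 0x25c00120001 (.node 0xf801d4012d .nil .nil) .nil)) (.node 0x28005120001 (.node 0x21c099e0001 (.node 0x34604d6012d .nil .nil) (.node 0x3e4038c012d .nil .nil)) (.node 301 (.node 0x28c04f4012d .nil .nil) .nil))) (.node 0x39a02e60001 (.node 1 (.node 434 (.node 0x20601d8012d .nil .nil) (.node 0x79e014c012d .nil .nil)) (.node 0x7e601400001 (.node 301 .nil .nil) .nil)) (.node 0xc05060001 (.node 0x32c0a340001 (.node 0x30e09e2012d .nil .nil) .nil) (.node 0x16a0420012d (.node 0x5ae05d4012d .nil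 .nil) .nil))))))))

/-- Data. -/
noncomputable def cand4 : Arr (ℕ) := (.node 0x42c094e0001 (.node 1 (.node 0x1a07ba0001 (.node 1 (.node 0x7320001 (.node 0x3e20a400001 (.node 0xfc09260001 (.node 0x1be0001 (.node 301 .nil .nil) (.node 0x6fa0172012d .nil .nil)) (.node 0x5fa008e0001 (.node 0x9001ea012d .nil .nil) .nil)) (.node 0x6140001 (.node 1 (.node 0x38e05ba012d .nil .nil) (.node 0x14e012d .nil .nil)) (.node 301 (.node 0x41a0034012d .nil .nil) .nil))) (.node 138 (.node 212 (.node 396 (.node 0x51c0a62012d .nil .nil) (.node 0x7680260012d .nil .nil)) (.node 1 (.node 0x4b206f8012d .nil .nil) .nil)) (.node 0x5f20a9e0001 (.node 0x1f800c60001 (.node 0x5c0930012d .nil .nil) (.node 0x6f00666012d .nil .nil)) (.node 0x378012d (.node 0x1b60320012d .nil .nil) .nil)))) (.node 0x2b602480001 (.node 0x77e06920001 (.node 0x13e02880001 (.node 1 (.node 0x60c051e012d .nil .nil) (.node 0x1b202be012d .nil .nil)) (.node 0x6b402b60001 (.node 0x17e09c0012d .nil .nil) .nil)) (.node 0x7d0011a0001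 (.node 0x6220001 (.node 0xc00a0c012d .nil .nil) (.node 0x5840644012d .nil .nil)) (.node 0x67a0228012d (.node 0x7f4012d .nil .nil) .nil))) (.node 0x3c606ba0001 (.node 1 (.node 0x798001a0001 (.node 0x22c0142012d .nil .nil) (.node 301 .nil .nil)) (.node 580 (.node 301 .nil .nil) .nil)) (.node 0x13a03480001 (.node 492 (.node 301 .nil .nil) (.node 301 .nil .nil)) (.node 0x45e090c012d (.node 0x57e0502012d .nil .nil) .nil))))) (.node 0x3cc061e0001 (.node 1 (.node 0x89c0001 (.node 0x69e07fa0001 (.node 1 (.node 0x41607d0012d .nil .nil) (.node 0x48c0884012d .nil .nil)) (.node 1 (.node 0x28405c4012d .nil .nil) .nil)) (.node 1 (.node 0x25808520001 (.node 0x7da08e2012d .nil .nil) (.node 0x2ce0948012d .nil .nil)) (.node 301 (.node 301 .nil .nil) .nil))) (.node 0x2ee0a200001 (.node 0x41405b80001 (.node 1 (.node 0x6140a04012d .nil .nil) (.node 301 .nil .nil)) (.node 1 (.node 0x76403ae012d .nil .nil) .nil)) (.node 304 (.node 480 (.node 0x280008c012d .nil .nil) (.node 0x51204e6012d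 .nil .nil)) (.node 0x416012d (.node 301 .nil .nil) .nil)))) (.node 0x1cc07d40001 (.node 0x2a602da0001 (.node 0x74028a0001 (.node 1 (.node 0x72e09e4012d .nil .nil) (.node 301 .nil .nil)) (.node 544 (.node 0x6b00670012d .nil .nil) .nil)) (.node 0x26004c80001 (.node 0x71e06e00001 (.node 0x2f8064a012d .nil .nil) (.node 0x5be0098012d .nil .nil)) (.node 0x5640122012d (.node 0x5ec021a012d .nil .nil) .nil))) (.node 1 (.node 0x74c03760001 (.node 0x558008c0001 (.node 0xba097c012d .nil .nil) (.node 0x7e012d .nil .nil)) (.node 0x27405fe0001 (.node 301 .nil .nil) .nil)) (.node 334 (.node 0x8320001 (.node 0x73208ba012d .nil .nil) (.node 301 .nil .nil)) (.node 301 (.node 0x78e0460012d .nil .nil) .nil)))))) (.node 0x780a100001 (.node 0xf405800001 (.node 50 (.node 1 (.node 0x56608bc0001 (.node 348 (.node 301 .nil .nil) (.node 301 .nil .nil)) (.node 0x5c600fe0001 (.node 301 .nil .nil) .nil)) (.node 264 (.node 1 (.node 301 .nil .nil) (.node 0x152012d .nil .nil)) (.node 0xa80012d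 (.node 0x52609c8012d .nil .nil) .nil))) (.node 142 (.node 0x33e00a60001 (.node 400 (.node 0x74404f6012d .nil .nil) (.node 0x128012d .nil .nil)) (.node 0x71a08ee0001 (.node 0x7a6072c012d .nil .nil) .nil)) (.node 1 (.node 474 (.node 0x1d0012d .nil .nil) (.node 0x4da0648012d .nil .nil)) (.node 0x9f0012d (.node 301 .nil .nil) .nil)))) (.node 0x3ea01a40001 (.node 1 (.node 0x21c0001 (.node 0x18201480001 (.node 0x6fa08b6012d .nil .nil) (.node 0x54061a012d .nil .nil)) (.node 0x1ae0001 (.node 0x916012d .nil .nil) .nil)) (.node 0x694056a0001 (.node 0x54802120001 (.node 0x8c8012d .nil .nil) (.node 0x2ae02f0012d .nil .nil)) (.node 0x2ea06fc012d (.node 0x7400a28012d .nil .nil) .nil))) (.node 0x184055e0001 (.node 0x8340001 (.node 0x7204280001 (.node 0x58003d8012d .nil .nil) (.node 0x7700978012d .nil .nil)) (.node 0x3c205380001 (.node 301 .nil .nil) .nil)) (.node 326 (.node 0x9740001 (.node 0x6b0012d .nil .nil) (.node 0x69a012d .nil .nil)) (.node 0x20a012d (.node 0x4c40722012d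 .nil .nil) .nil))))) (.node 0x55e0a320001 (.node 0x2bc080e0001 (.node 1 (.node 0x39a079e0001 (.node 0x67a04fe0001 (.node 301 .nil .nil) (.node 301 .nil .nil)) (.node 0x46e02620001 (.node 0x41a0a5a012d .nil .nil) .nil)) (.node 0xfc05000001 (.node 0x8407200001 (.node 301 .nil .nil) (.node 0x312012d .nil .nil)) (.node 0x3900a86012d (.node 0x2180138012d .nil .nil) .nil))) (.node 1 (.node 0x51800e40001 (.node 1 (.node 0x130012d .nil .nil) (.node 0x8d8012d .nil .nil)) (.node 0x9c06e60001 (.node 0x1f406ac012d .nil .nil) .nil)) (.node 316 (.node 1 (.node 0x60c012d .nil .nil) (.node 301 .nil .nil)) (.node 301 (.node 0x50400f6012d .nil .nil) .nil)))) (.node 0x80a0001 (.node 0x59c04d20001 (.node 1 (.node 0x55005880001 (.node 0x42c012d .nil .nil) (.node 0x40046a012d .nil .nil)) (.node 0x28407040001 (.node 0x17008f6012d .nil .nil) .nil)) (.node 0x55007660001 (.node 1 (.node 0x5e0073a012d .nil .nil) (.node 0x1ec096e012d .nil .nil)) (.node 301 (.node 0x2a0012d .nil .nil) .nil)))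 (.node 1 (.node 0x5ae00ba0001 (.node 0x3300001 (.node 301 .nil .nil) (.node 301 .nil .nil)) (.node 1 (.node 0x6a80494012d .nil .nil) .nil)) (.node 0x14e09700001 (.node 1 (.node 301 .nil .nil) .nil) (.node 301 (.node 0x5d80574012d .nil .nil) .nil))))))) (.node 0x5f200de0001 (.node 0x77a06460001 (.node 1 (.node 0x4d605920001 (.node 0x74602020001 (.node 0x3c808500001 (.node 1 (.node 0x32e0342012d .nil .nil) (.node 0x9a012d .nil .nil)) (.node 512 (.node 0x72a0a56012d .nil .nil) .nil)) (.node 0x1d80001 (.node 440 (.node 0xa1e012d .nil .nil) (.node 0x66c06f2012d .nil .nil)) (.node 301 (.node 301 .nil .nil) .nil))) (.node 0x58408020001 (.node 216 (.node 0x71c058e0001 (.node 0x5a2002c012d .nil .nil) (.node 301 .nil .nil)) (.node 0x4d8051a0001 (.node 0x332012d .nil .nil) .nil)) (.node 0x9c0001 (.node 0x1a403ac0001 (.node 0x716012d .nil .nil) (.node 0x7a203fe012d .nil .nil)) (.node 0x23807ba012d (.node 0x36e04ae012d .nil .nil) .nil)))) (.node 0x59e0001 (.node 0x38406e20001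 (.node 0x38005a0001 (.node 0x73207400001 (.node 301 .nil .nil) (.node 0x47c044e012d .nil .nil)) (.node 0x9960001 (.node 0x80a012d .nil .nil) .nil)) (.node 284 (.node 0x1c05e20001 (.node 0x7fc0548012d .nil .nil) (.node 0x7fa0784012d .nil .nil)) (.node 0x61e0216012d (.node 0x6dc07b6012d .nil .nil) .nil))) (.node 0x5a005720001 (.node 0x6ee02dc0001 (.node 420 (.node 0x330012d .nil .nil) (.node 301 .nil .nil)) (.node 1 (.node 301 .nil .nil) .nil)) (.node 1 (.node 1 (.node 0x36012d .nil .nil) (.node 0x23a0008012d .nil .nil)) (.node 0x4a8031a012d (.node 301 .nil .nil) .nil))))) (.node 1 (.node 58 (.node 0x8ea0001 (.node 0x52a007c0001 (.node 360 (.node 0x6f40322012d .nil .nil) (.node 0x9fe012d .nil .nil)) (.node 0x4ec0001 (.node 301 .nil .nil) .nil)) (.node 0x102054a0001 (.node 0x69603900001 (.node 0x106060a012d .nil .nil) (.node 0x1aa0452012d .nil .nil)) (.node 0x5ae023e012d (.node 301 .nil .nil) .nil))) (.node 0x68a09160001 (.node 0x12c06400001 (.node 0x320001e0001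 (.node 0x25808fa012d .nil .nil) (.node 301 .nil .nil)) (.node 0x37005760001 (.node 0x21007aa012d .nil .nil) .nil)) (.node 0x68606120001 (.node 1 (.node 301 .nil .nil) (.node 0x2ea0628012d .nil .nil)) (.node 0x15402c4012d (.node 0x8e6012d .nil .nil) .nil)))) (.node 0x49e0001 (.node 124 (.node 1 (.node 386 (.node 0x8a6012d .nil .nil) (.node 301 .nil .nil)) (.node 1 (.node 0x73402ec012d .nil .nil) .nil)) (.node 1 (.node 0x7a604640001 (.node 301 .nil .nil) (.node 0xd804b6012d .nil .nil)) (.node 0x660590012d (.node 0x4aa066a012d .nil .nil) .nil))) (.node 160 (.node 246 (.node 0x41c09a00001 (.node 0x40800ae012d .nil .nil) (.node 0x5460626012d .nil .nil)) (.node 1 (.node 0x64807a6012d .nil .nil) .nil)) (.node 338 (.node 0x41c003a0001 (.node 0x74c091c012d .nil .nil) (.node 0xa1c012d .nil .nil)) (.node 0x3e207e6012d (.node 0x1620556012d .nil .nil) .nil)))))) (.node 16 (.node 0x3ae04400001 (.node 1 (.node 0xa480001 (.node 0x1820001 (.node 352 (.node 0x3900496012d .nil .nil)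 (.node 0x1ac01d6012d .nil .nil)) (.node 0x5d807e80001 (.node 0x63a0464012d .nil .nil) .nil)) (.node 0x74c045a0001 (.node 1 (.node 0x15c012d .nil .nil) (.node 0x852012d .nil .nil)) (.node 0x4e409ec012d (.node 0x4dc0042012d .nil .nil) .nil))) (.node 0x3180001 (.node 0x6ba00b60001 (.node 1 (.node 301 .nil .nil) (.node 0x6b8012d .nil .nil)) (.node 0x6ae0001 (.node 0x6860910012d .nil .nil) .nil)) (.node 0x9120001 (.node 0x7ce058c0001 (.node 0x6b80408012d .nil .nil) (.node 0x4cc0148012d .nil .nil)) (.node 0x3ba0250012d (.node 0x40c03b2012d .nil .nil) .nil)))) (.node 0x45e0a440001 (.node 0x7c808620001 (.node 1 (.node 0x34006f80001 (.node 301 .nil .nil) (.node 0x35c01a2012d .nil .nil)) (.node 0x1a0a700001 (.node 0x78a046c012d .nil .nil) .nil)) (.node 0x4b004760001 (.node 462 (.node 0x296012d .nil .nil) (.node 0x34a02b8012d .nil .nil)) (.node 0x392012d (.node 0x226012d .nil .nil) .nil))) (.node 0x6e40001 (.node 0x3980001 (.node 0x4680001 (.node 0x3cc0614012d .nil .nil)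 (.node 301 .nil .nil)) (.node 1 (.node 0x2bc02f8012d .nil .nil) .nil)) (.node 0x5c0058a0001 (.node 0xd005c00001 (.node 0x5da0540012d .nil .nil) (.node 301 .nil .nil)) (.node 301 (.node 0x38a012d .nil .nil) .nil))))) (.node 0x66009e40001 (.node 0x564064a0001 (.node 0x5a807ee0001 (.node 192 (.node 0x78c09be0001 (.node 0x124012d .nil .nil) (.node 301 .nil .nil)) (.node 0x2f80001 (.node 0x7ac010c012d .nil .nil) .nil)) (.node 0x13c080c0001 (.node 0xa780001 (.node 0x47a06da012d .nil .nil) (.node 301 .nil .nil)) (.node 0x4c0073c012d (.node 0x920680012d .nil .nil) .nil))) (.node 0xa6c0001 (.node 228 (.node 0x72e09600001 (.node 0x594012d .nil .nil) (.node 0x50a0510012d .nil .nil)) (.node 0x532014e0001 (.node 301 .nil .nil) .nil)) (.node 0x7c20a300001 (.node 0x43e05cc0001 (.node 301 .nil .nil) (.node 0x92043e012d .nil .nil)) (.node 0x7dc012d (.node 0x6ca064e012d .nil .nil) .nil)))) (.node 0x2f205400001 (.node 0x920001 (.node 0x2ec09ea0001 (.node 1 (.node 0x2c0992012d .nil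 .nil) (.node 0x3000880012d .nil .nil)) (.node 0x6c202860001 (.node 301 .nil .nil) .nil)) (.node 0x5e4057c0001 (.node 464 (.node 0x9407c6012d .nil .nil) (.node 0x15406bc012d .nil .nil)) (.node 0x1e406d8012d (.node 301 .nil .nil) .nil))) (.node 166 (.node 1 (.node 0x7380001 (.node 0x2280aa2012d .nil .nil) (.node 0xc808e8012d .nil .nil)) (.node 598 (.node 301 .nil .nil) .nil)) (.node 0x26e02aa0001 (.node 0x65c05200001 (.node 301 .nil .nil) .nil) (.node 301 (.node 0x388012d .nil .nil) .nil))))))))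

/-- Data. -/
noncomputable def cand5 : Arr (ℕ) := (.node 0 (.node 0x6e2073e0001 (.node 0x1fa09ec0001 (.node 0x13401600001 (.node 0x93e0001 (.node 0x4a406520001 (.node 172 (.node 0x6bc03fe0001 (.node 0x366012d .nil .nil) (.node 0x5ec0606012d .nil .nil)) (.node 508 (.node 0x1b605b8012d .nil .nil) .nil)) (.node 256 (.node 1 (.node 0x54a097a012d .nil .nil) (.node 301 .nil .nil)) (.node 301 (.node 0x6cc012d .nil .nil) .nil))) (.node 140 (.node 0x92012a0001 (.node 0x75803b80001 (.node 0x96a012d .nil .nil) (.node 0x664012d .nil .nil)) (.node 562 (.node 0x5280786012d .nil .nil) .nil)) (.node 294 (.node 0x1aa0001 (.node 0x6be071a012d .nil .nil) (.node 0x7e805a2012d .nil .nil)) (.node 0x5c4004c012d (.node 0x72e0868012d .nil .nil) .nil)))) (.node 66 (.node 0x6d80a3e0001 (.node 0x2d40a040001 (.node 0x69e050a0001 (.node 301 .nil .nil) (.node 0x50203fc012d .nil .nil)) (.node 1 (.node 0x2ec030a012d .nil .nil) .nil)) (.node 1 (.node 0x590066e0001 (.node 0x6d4012d .nil .nil)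 (.node 0x4e2083e012d .nil .nil)) (.node 0x7100132012d (.node 0x4080630012d .nil .nil) .nil))) (.node 0x2401140001 (.node 0x6d007600001 (.node 0xcc0001 (.node 301 .nil .nil) (.node 0xd407fa012d .nil .nil)) (.node 582 (.node 0x51c0a34012d .nil .nil) .nil)) (.node 0x13a0001 (.node 494 (.node 0x21609ea012d .nil .nil) (.node 0x4ec012d .nil .nil)) (.node 301 (.node 301 .nil .nil) .nil))))) (.node 32 (.node 0x338029a0001 (.node 1 (.node 180 (.node 0x58607c00001 (.node 301 .nil .nil) (.node 0x492012d .nil .nil)) (.node 520 (.node 301 .nil .nil) .nil)) (.node 0x5d806980001 (.node 0x30608560001 (.node 0x102012d .nil .nil) (.node 0x39c00fa012d .nil .nil)) (.node 0x116065e012d (.node 301 .nil .nil) .nil))) (.node 148 (.node 0x6f206700001 (.node 1 (.node 0x5c012d .nil .nil) (.node 0x8c2012d .nil .nil)) (.node 1 (.node 0x1040a6a012d .nil .nil) .nil)) (.node 0x416054e0001 (.node 0x2f201c40001 (.node 0x50c09a0012d .nil .nil) (.node 0x330091a012d .nil .nil)) (.node 0x1ce09ba012d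 (.node 0x762012d .nil .nil) .nil)))) (.node 84 (.node 0x3c00001 (.node 0x47e06ea0001 (.node 0x4780001 (.node 0x178012d .nil .nil) (.node 0x7e80a38012d .nil .nil)) (.node 1 (.node 0x4c80a74012d .nil .nil) .nil)) (.node 0x5cc01c20001 (.node 0xa07de0001 (.node 0x578012d .nil .nil) (.node 301 .nil .nil)) (.node 0x46c0742012d (.node 301 .nil .nil) .nil))) (.node 1 (.node 0x14003600001 (.node 1 (.node 0x1f205ee012d .nil .nil) (.node 0x41c0712012d .nil .nil)) (.node 1 (.node 0x2aa033c012d .nil .nil) .nil)) (.node 336 (.node 0x55006f20001 (.node 0x70c01fa012d .nil .nil) (.node 0x4c2012d .nil .nil)) (.node 0x5120154012d (.node 0x46075e012d .nil .nil) .nil)))))) (.node 0x46802c40001 (.node 0x7b2084e0001 (.node 0x43804000001 (.node 1 (.node 1 (.node 0x32e013c0001 (.node 301 .nil .nil) (.node 301 .nil .nil)) (.node 0x75a0001 (.node 0x5b40700012d .nil .nil) .nil)) (.node 1 (.node 0x4ec08f20001 (.node 301 .nil .nil) (.node 0x65a058a012d .nil .nil)) (.node 0x1e603b4012d (.node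 0x822012d .nil .nil) .nil))) (.node 0x36a02b00001 (.node 0x35400480001 (.node 0x2f40001 (.node 0x87a012d .nil .nil) (.node 0x8cc012d .nil .nil)) (.node 568 (.node 301 .nil .nil) .nil)) (.node 0x38207460001 (.node 0x2ce0001 (.node 0x7ea057a012d .nil .nil) (.node 0x59a012d .nil .nil)) (.node 0x6ae0a3c012d (.node 0x1aa012d .nil .nil) .nil)))) (.node 0x9100001 (.node 0x54206d60001 (.node 0x642077a0001 (.node 380 (.node 0x18e0756012d .nil .nil) (.node 0x2340356012d .nil .nil)) (.node 0x8220001 (.node 0x70e012d .nil .nil) .nil)) (.node 1 (.node 458 (.node 0x12803c0012d .nil .nil) (.node 0x4d209e0012d .nil .nil)) (.node 0x13e012d (.node 0x5c0116012d .nil .nil) .nil))) (.node 1 (.node 0x63601a80001 (.node 426 (.node 0x64a08a4012d .nil .nil) (.node 0x42c04f2012d .nil .nil)) (.node 0x61005d60001 (.node 0x5320980012d .nil .nil) .nil)) (.node 1 (.node 1 (.node 0x1080a36012d .nil .nil) (.node 0xce040e012d .nil .nil)) (.node 0x264012d (.node 0x5e0012d .nil .nil) .nil))))) (.node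 1 (.node 0x31a079c0001 (.node 0x3660001 (.node 0x7e804500001 (.node 364 (.node 0x42c07bc012d .nil .nil) (.node 0x5b8028e012d .nil .nil)) (.node 0x38606560001 (.node 301 .nil .nil) .nil)) (.node 0x2b608e00001 (.node 450 (.node 0x6800364012d .nil .nil) (.node 0xa2013a012d .nil .nil)) (.node 301 (.node 0x48404b0012d .nil .nil) .nil))) (.node 0x2d201080001 (.node 0x67803820001 (.node 0x6ea060a0001 (.node 301 .nil .nil) (.node 0x5ae00ca012d .nil .nil)) (.node 0x75c0001 (.node 0x1e0012d .nil .nil) .nil)) (.node 0x7e405b60001 (.node 0x240010c0001 (.node 0x5a005cc012d .nil .nil) (.node 301 .nil .nil)) (.node 0x484012d (.node 0x63005f4012d .nil .nil) .nil)))) (.node 0x6c602720001 (.node 0x6880001 (.node 210 (.node 0x6f604260001 (.node 0x1c012d .nil .nil) (.node 0x4b60972012d .nil .nil)) (.node 0x7bc06580001 (.node 0x3cc06b2012d .nil .nil) .nil)) (.node 1 (.node 0x572038a0001 (.node 0x58c0732012d .nil .nil) (.node 0x1bc0290012d .nil .nil)) (.node 301 (.node 0x70a08de012d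 .nil .nil) .nil))) (.node 0x5a08920001 (.node 252 (.node 0x57809e00001 (.node 0x2c09bc012d .nil .nil) (.node 0x7c0012d .nil .nil)) (.node 0x3ee0001 (.node 0x7ae012d .nil .nil) .nil)) (.node 0xf207700001 (.node 0x6c0a080001 (.node 301 .nil .nil) .nil) (.node 0x2960204012d (.node 0x544016a012d .nil .nil) .nil))))))) (.node 0x71803720001 (.node 1 (.node 24 (.node 1 (.node 0x1d808200001 (.node 1 (.node 0x3b007220001 (.node 0x976012d .nil .nil) (.node 0x460052c012d .nil .nil)) (.node 0x69c0001 (.node 0x72a06a8012d .nil .nil) .nil)) (.node 258 (.node 1 (.node 301 .nil .nil) (.node 0x16c012d .nil .nil)) (.node 0x73c0592012d (.node 0x896012d .nil .nil) .nil))) (.node 0x1360a220001 (.node 0x8c40001 (.node 0x7a600640001 (.node 301 .nil .nil) (.node 0x1602c6012d .nil .nil)) (.node 564 (.node 0x4dc085c012d .nil .nil) .nil)) (.node 1 (.node 1 (.node 0x5060436012d .nil .nil) (.node 301 .nil .nil)) (.node 0xa409ee012d (.node 0x1880a24012d .nil .nil) .nil)))) (.node 0x4407680001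 (.node 0x55c06f40001 (.node 0x4c802680001 (.node 0x99c0001 (.node 301 .nil .nil) (.node 0x70608d2012d .nil .nil)) (.node 0x3d20a8a0001 (.node 0x272012d .nil .nil) .nil)) (.node 1 (.node 0x3ac01720001 (.node 0x9c04a0012d .nil .nil) (.node 0x6e02e2012d .nil .nil)) (.node 0x3780532012d (.node 0x41c0964012d .nil .nil) .nil))) (.node 0x20201840001 (.node 232 (.node 1 (.node 0x5340a20012d .nil .nil) (.node 0x588012d .nil .nil)) (.node 586 (.node 0x4580a7e012d .nil .nil) .nil)) (.node 1 (.node 0x4620001 (.node 0xe2045e012d .nil .nil) (.node 0x15403dc012d .nil .nil)) (.node 0x34c06f0012d (.node 301 .nil .nil) .nil))))) (.node 0x7140001 (.node 60 (.node 1 (.node 1 (.node 1 (.node 0x6a40796012d .nil .nil) (.node 0x722066e012d .nil .nil)) (.node 0x1cc07180001 (.node 0x2c0988012d .nil .nil) .nil)) (.node 0x86e0001 (.node 0x4005c60001 (.node 0x56802b2012d .nil .nil) (.node 0x576056c012d .nil .nil)) (.node 0xee0304012d (.node 0x90010a012d .nil .nil) .nil))) (.node 0xd405020001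 (.node 1 (.node 408 (.node 0x6ba0428012d .nil .nil) (.node 0x5500336012d .nil .nil)) (.node 0x1c809a80001 (.node 0x6160258012d .nil .nil) .nil)) (.node 308 (.node 0x3740001 (.node 0x5ec06be012d .nil .nil) (.node 0x81e012d .nil .nil)) (.node 0x554012d (.node 0x446012d .nil .nil) .nil)))) (.node 1 (.node 126 (.node 1 (.node 1 (.node 0x2a405e4012d .nil .nil) (.node 0x254012d .nil .nil)) (.node 0xe4041a0001 (.node 0x3ca012d .nil .nil) .nil)) (.node 0x9820001 (.node 1 (.node 0x4860a22012d .nil .nil) (.node 0x398025e012d .nil .nil)) (.node 0x276003c012d (.node 0x6d60a14012d .nil .nil) .nil))) (.node 0x4ae07f40001 (.node 1 (.node 1 (.node 0x4c002ac012d .nil .nil) (.node 0xe40422012d .nil .nil)) (.node 0x4aa04cc0001 (.node 301 .nil .nil) .nil)) (.node 0xcc00400001 (.node 0x18c02fe0001 (.node 0x1ce0766012d .nil .nil) (.node 0x71e0380012d .nil .nil)) (.node 0x75a0840012d (.node 301 .nil .nil) .nil)))))) (.node 18 (.node 1 (.node 1 (.node 1 (.node 0x228082a0001 (.node 1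 (.node 0x58c04fe012d .nil .nil) (.node 301 .nil .nil)) (.node 0x4520001 (.node 0x3b40904012d .nil .nil) .nil)) (.node 0x9520001 (.node 0x34806360001 (.node 0x31c04c8012d .nil .nil) (.node 0x2980134012d .nil .nil)) (.node 0x63e0564012d (.node 0x72a09d0012d .nil .nil) .nil))) (.node 0x2ac0aa00001 (.node 224 (.node 404 (.node 0x4cc042a012d .nil .nil) (.node 0x54a0206012d .nil .nil)) (.node 1 (.node 0x62a05c8012d .nil .nil) .nil)) (.node 0x9c80001 (.node 1 (.node 301 .nil .nil) (.node 0x2a205c6012d .nil .nil)) (.node 0x40c0168012d (.node 0x60600fe012d .nil .nil) .nil)))) (.node 0xae046e0001 (.node 1 (.node 1 (.node 0x8e80001 (.node 301 .nil .nil) (.node 301 .nil .nil)) (.node 0x63600a20001 (.node 0x10006a4012d .nil .nil) .nil)) (.node 1 (.node 0x6d405180001 (.node 0x55e0278012d .nil .nil) (.node 0x5b40806012d .nil .nil)) (.node 0x24a0820012d (.node 0x7a012d .nil .nil) .nil))) (.node 1 (.node 0x30020e0001 (.node 0x5340001 (.node 0x57c0604012d .nil .nil) (.node 0x46c009e012d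 .nil .nil)) (.node 590 (.node 0x76a07d8012d .nil .nil) .nil)) (.node 332 (.node 1 (.node 301 .nil .nil) (.node 301 .nil .nil)) (.node 301 (.node 0x882012d .nil .nil) .nil))))) (.node 0x44209d80001 (.node 0x2b8053e0001 (.node 0x400090c0001 (.node 1 (.node 372 (.node 0x5fe01f0012d .nil .nil) (.node 0x2ec04da012d .nil .nil)) (.node 528 (.node 0x1580836012d .nil .nil) .nil)) (.node 0x78200e20001 (.node 0x22c0a6a0001 (.node 301 .nil .nil) (.node 301 .nil .nil)) (.node 0x48806fa012d (.node 301 .nil .nil) .nil))) (.node 0x72a07fe0001 (.node 0x27806b80001 (.node 414 (.node 0x9a2012d .nil .nil) (.node 301 .nil .nil)) (.node 1 (.node 0x888012d .nil .nil) .nil)) (.node 322 (.node 484 (.node 301 .nil .nil) (.node 0x78012d .nil .nil)) (.node 0xce03f2012d (.node 0x55e0170012d .nil .nil) .nil)))) (.node 90 (.node 132 (.node 0xa209f20001 (.node 0x18000d60001 (.node 301 .nil .nil) (.node 0x10408aa012d .nil .nil)) (.node 0x2740001 (.node 0x2f2012d .nil .nil) .nil)) (.node 0x97e0001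 (.node 1 (.node 301 .nil .nil) (.node 0xb4012d .nil .nil)) (.node 301 (.node 301 .nil .nil) .nil))) (.node 0x2ac09de0001 (.node 1 (.node 436 (.node 0x2ec081c012d .nil .nil) (.node 0x1f80a4e012d .nil .nil)) (.node 0x13203680001 (.node 0x92c012d .nil .nil) .nil)) (.node 0x1804920001 (.node 0x52000b40001 (.node 0x29e045a012d .nil .nil) .nil) (.node 0x1f608e4012d (.node 301 .nil .nil) .nil))))))))

/-- Data. -/
noncomputable def cand6 : Arr (ℕ) := (.node 0x3240001 (.node 1 (.node 12 (.node 0x39203a00001 (.node 1 (.node 0x3dc09ba0001 (.node 0x28401360001 (.node 0x32206bc0001 (.node 0x31e08d6012d .nil .nil) (.node 0x6920476012d .nil .nil)) (.node 0x69805440001 (.node 301 .nil .nil) .nil)) (.node 0x4f608e40001 (.node 0x9fe0001 (.node 0x91e012d .nil .nil) (.node 0x5380194012d .nil .nil)) (.node 0x6ec0434012d (.node 0xda04a8012d .nil .nil) .nil))) (.node 0x4080a0c0001 (.node 1 (.node 0x1200001 (.node 0xdc089e012d .nil .nil) (.node 0x78a054e012d .nil .nil)) (.node 1 (.node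 0x1fa0928012d .nil .nil) .nil)) (.node 0x9fa0001 (.node 0x62803d00001 (.node 0x3080926012d .nil .nil) (.node 0xde0892012d .nil .nil)) (.node 0x962012d (.node 301 .nil .nil) .nil)))) (.node 0x78e0001 (.node 0xec0001 (.node 194 (.node 374 (.node 301 .nil .nil) (.node 0x3180886012d .nil .nil)) (.node 0x5cc01280001 (.node 0x20c03b8012d .nil .nil) .nil)) (.node 1 (.node 1 (.node 0x7a4030e012d .nil .nil) (.node 301 .nil .nil)) (.node 0x6bc05a4012d (.node 0x1ee0220012d .nil .nil) .nil))) (.node 0x1b00001 (.node 1 (.node 0x64e0001 (.node 0x1160634012d .nil .nil) (.node 0xd60314012d .nil .nil)) (.node 1 (.node 0xa06012d .nil .nil) .nil)) (.node 0x76001860001 (.node 1 (.node 0x61a012e012d .nil .nil) (.node 301 .nil .nil)) (.node 0x6f20890012d (.node 0x1b20922012d .nil .nil) .nil))))) (.node 0x2de0001 (.node 52 (.node 1 (.node 0x7c40001 (.node 0x66a09d60001 (.node 0x52e0276012d .nil .nil) (.node 301 .nil .nil)) (.node 0x4820001 (.node 0x7800a58012d .nil .nil) .nil)) (.node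 0x79203b20001 (.node 0x41c06600001 (.node 0xd40396012d .nil .nil) (.node 0x9ae012d .nil .nil)) (.node 301 (.node 0x11800e0012d .nil .nil) .nil))) (.node 1 (.node 1 (.node 0x562023c0001 (.node 0x3500010012d .nil .nil) (.node 0x67801da012d .nil .nil)) (.node 0x53604f00001 (.node 0x482012d .nil .nil) .nil)) (.node 0x4c607c60001 (.node 0x4060001 (.node 301 .nil .nil) (.node 301 .nil .nil)) (.node 0x5400202012d (.node 0x4ca07a8012d .nil .nil) .nil)))) (.node 0xa00a260001 (.node 0x5a80001 (.node 0x1880001 (.node 1 (.node 0x3ea00bc012d .nil .nil) (.node 0x69205b0012d .nil .nil)) (.node 546 (.node 0x28e058e012d .nil .nil) .nil)) (.node 0x5e0076e0001 (.node 1 (.node 301 .nil .nil) (.node 301 .nil .nil)) (.node 0x2e408a2012d (.node 0x188041c012d .nil .nil) .nil))) (.node 0x32e09a20001 (.node 1 (.node 0x4a80001 (.node 301 .nil .nil) (.node 0x46c02fc012d .nil .nil)) (.node 0xc604d40001 (.node 0x1c0012d .nil .nil) .nil)) (.node 1 (.node 0x4ea00340001 (.node 0x32e082a012d .nil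 .nil) (.node 0x8b8012d .nil .nil)) (.node 0x1be0608012d (.node 0x53e044c012d .nil .nil) .nil)))))) (.node 0x4f40a3c0001 (.node 26 (.node 0x1360a940001 (.node 0x2f008b00001 (.node 0x8120001 (.node 0x5ba09200001 (.node 0x838012d .nil .nil) (.node 0x2560026012d .nil .nil)) (.node 0x3900a680001 (.node 0x43007d4012d .nil .nil) .nil)) (.node 266 (.node 0x9a0001 (.node 0x906012d .nil .nil) (.node 301 .nil .nil)) (.node 0x22c03b0012d (.node 0x9f8012d .nil .nil) .nil))) (.node 144 (.node 0x29e0001 (.node 402 (.node 301 .nil .nil) (.node 301 .nil .nil)) (.node 0x748039a0001 (.node 0x168055a012d .nil .nil) .nil)) (.node 0x6800001 (.node 1 (.node 0x710012d .nil .nil) (.node 301 .nil .nil)) (.node 0x7a0012d (.node 0x210012d .nil .nil) .nil)))) (.node 0x7a4097a0001 (.node 0x78a0a660001 (.node 0x1ca06b40001 (.node 0x28c00380001 (.node 301 .nil .nil) (.node 301 .nil .nil)) (.node 536 (.node 0x3b202d2012d .nil .nil) .nil)) (.node 0x3380001 (.node 460 (.node 0x1b605a8012d .nil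 .nil) (.node 0x448012d .nil .nil)) (.node 0x2f007d6012d (.node 301 .nil .nil) .nil))) (.node 0x6780001 (.node 0x54c05a20001 (.node 0x5c01ee0001 (.node 0x3540110012d .nil .nil) (.node 0x2720a88012d .nil .nil)) (.node 0x4b2055a0001 (.node 0x196012d .nil .nil) .nil)) (.node 0x6b20001 (.node 0x35a0001 (.node 0xe20054012d .nil .nil) (.node 0xc8012d .nil .nil)) (.node 0x55c03ba012d (.node 301 .nil .nil) .nil))))) (.node 0x13a0aa20001 (.node 0x38604e40001 (.node 1 (.node 0x2ac016a0001 (.node 1 (.node 0x3180024012d .nil .nil) (.node 0x57e01e8012d .nil .nil)) (.node 524 (.node 0x480012d .nil .nil) .nil)) (.node 1 (.node 1 (.node 0x79c012d .nil .nil) (.node 0x860012d .nil .nil)) (.node 301 (.node 301 .nil .nil) .nil))) (.node 150 (.node 0x6b801240001 (.node 0x7ca0001 (.node 0x37e09c2012d .nil .nil) (.node 301 .nil .nil)) (.node 0x60008f60001 (.node 0x796077a012d .nil .nil) .nil)) (.node 0x4720001 (.node 0x2be0001 (.node 301 .nil .nil) (.node 301 .nil .nil)) (.node 0x2300182012d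 (.node 0x486012d .nil .nil) .nil)))) (.node 88 (.node 1 (.node 0x4fc0001 (.node 0x328081e0001 (.node 0x61405c0012d .nil .nil) (.node 301 .nil .nil)) (.node 0x20407d20001 (.node 0x2760772012d .nil .nil) .nil)) (.node 0x2fe040a0001 (.node 1 (.node 0x2b2093e012d .nil .nil) (.node 0x21e00c2012d .nil .nil)) (.node 0x9f4012d (.node 301 .nil .nil) .nil))) (.node 162 (.node 254 (.node 0x65201620001 (.node 0x5860a32012d .nil .nil) (.node 0x5c606e0012d .nil .nil)) (.node 0x7fc0a1c0001 (.node 0x738044a012d .nil .nil) .nil)) (.node 342 (.node 1 (.node 0x1040338012d .nil .nil) .nil) (.node 0x4c4019a012d (.node 0x6ea00e2012d .nil .nil) .nil))))))) (.node 0xe80001 (.node 0x2360001 (.node 0x1f6050c0001 (.node 0x6f00001 (.node 0x1ca0001 (.node 0x6ea09b60001 (.node 1 (.node 0xa9a012d .nil .nil) (.node 0x5cc088c012d .nil .nil)) (.node 0x2a80001 (.node 301 .nil .nil) .nil)) (.node 260 (.node 0x470040e0001 (.node 301 .nil .nil) (.node 0xf40950012d .nil .nil)) (.node 0x1d2012d (.node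 0x128047e012d .nil .nil) .nil))) (.node 0x2c005220001 (.node 218 (.node 0x6b003dc0001 (.node 0x72c05fc012d .nil .nil) (.node 301 .nil .nil)) (.node 0xa806960001 (.node 0x200120012d .nil .nil) .nil)) (.node 0x4f80001 (.node 472 (.node 0x776006c012d .nil .nil) (.node 0x9e0266012d .nil .nil)) (.node 0xa10012d (.node 0x1a6065c012d .nil .nil) .nil)))) (.node 0x3a008a40001 (.node 116 (.node 0x57c02d20001 (.node 0x8fc0001 (.node 301 .nil .nil) (.node 301 .nil .nil)) (.node 534 (.node 301 .nil .nil) .nil)) (.node 0x2fa006e0001 (.node 0x7c000c80001 (.node 0x64049c012d .nil .nil) (.node 0x5f604e8012d .nil .nil)) (.node 301 (.node 0x6c808f0012d .nil .nil) .nil))) (.node 0x3b004700001 (.node 0x33203e40001 (.node 422 (.node 301 .nil .nil) (.node 0x4fc08e0012d .nil .nil)) (.node 1 (.node 0x632039e012d .nil .nil) .nil)) (.node 1 (.node 0x71603860001 (.node 301 .nil .nil) (.node 0x1cc0064012d .nil .nil)) (.node 0x3d00954012d (.node 0x1d200b6012d .nil .nil) .nil))))) (.node 1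 (.node 0xa8c0001 (.node 1 (.node 184 (.node 1 (.node 0x424074c012d .nil .nil) (.node 0xc00a9c012d .nil .nil)) (.node 0x8203f80001 (.node 0xfe0524012d .nil .nil) .nil)) (.node 0x7604460001 (.node 0x26c039c0001 (.node 0x1da0566012d .nil .nil) (.node 0x388068e012d .nil .nil)) (.node 0xa00754012d (.node 0x634093a012d .nil .nil) .nil))) (.node 0x63a05700001 (.node 1 (.node 0x19c09360001 (.node 0x13c0190012d .nil .nil) (.node 301 .nil .nil)) (.node 1 (.node 0x17e0642012d .nil .nil) .nil)) (.node 0x452066a0001 (.node 1 (.node 0x3c401c6012d .nil .nil) (.node 0xcc012d .nil .nil)) (.node 301 (.node 301 .nil .nil) .nil)))) (.node 0x3ce03e20001 (.node 1 (.node 1 (.node 388 (.node 0x33e020e012d .nil .nil) (.node 0x656012d .nil .nil)) (.node 1 (.node 0x4b0099a012d .nil .nil) .nil)) (.node 0x4ce06d20001 (.node 0x41a09240001 (.node 0x67801be012d .nil .nil) (.node 0x7a60352012d .nil .nil)) (.node 0x50c0850012d (.node 0x6780108012d .nil .nil) .nil))) (.node 0x4e401b80001 (.node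 0x7aa06a40001 (.node 1 (.node 0x10e059c012d .nil .nil) (.node 0x7ec05f2012d .nil .nil)) (.node 0x4040001 (.node 0x6ba08ae012d .nil .nil) .nil)) (.node 1 (.node 1 (.node 301 .nil .nil) (.node 0x384012d .nil .nil)) (.node 301 (.node 0x4a80996012d .nil .nil) .nil)))))) (.node 1 (.node 28 (.node 0x6da0001 (.node 0x53c00240001 (.node 0x1b0015e0001 (.node 1 (.node 0x536012d .nil .nil) (.node 0x390048c012d .nil .nil)) (.node 0x6ca08dc0001 (.node 301 .nil .nil) .nil)) (.node 0x55207f80001 (.node 0x960001 (.node 0x938012d .nil .nil) (.node 0x7b2012d .nil .nil)) (.node 0x64096c012d (.node 0x6fa04d0012d .nil .nil) .nil))) (.node 1 (.node 0xec09640001 (.node 0x522023a0001 (.node 0x4e6009c012d .nil .nil) (.node 301 .nil .nil)) (.node 0x31209dc0001 (.node 0x68a012d .nil .nil) .nil)) (.node 0x67609ca0001 (.node 0x5f00001 (.node 0x32012d .nil .nil) (.node 0x10a05f8012d .nil .nil)) (.node 301 (.node 0x39a0924012d .nil .nil) .nil)))) (.node 1 (.node 0x3a803260001 (.node 1 (.node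 1 (.node 301 .nil .nil) (.node 301 .nil .nil)) (.node 0x73403be0001 (.node 301 .nil .nil) .nil)) (.node 1 (.node 0x4c603c20001 (.node 0x56c05b2012d .nil .nil) (.node 0x3cc00c4012d .nil .nil)) (.node 0x63c0136012d (.node 0x430021e012d .nil .nil) .nil))) (.node 0x1c07bc0001 (.node 0x13e06b00001 (.node 0x2cc08780001 (.node 0x74e0526012d .nil .nil) (.node 0x2260794012d .nil .nil)) (.node 0x69a0001 (.node 301 .nil .nil) .nil)) (.node 0x2f20001 (.node 0x1140a5a0001 (.node 0xda012d .nil .nil) (.node 0x6ae03e8012d .nil .nil)) (.node 0x394012d (.node 0x1dc0894012d .nil .nil) .nil))))) (.node 0x23002560001 (.node 0x17a0001 (.node 1 (.node 0x2e002520001 (.node 0xf401380001 (.node 301 .nil .nil) (.node 0xa92012d .nil .nil)) (.node 1 (.node 301 .nil .nil) .nil)) (.node 0x608027a0001 (.node 0x414009e0001 (.node 301 .nil .nil) (.node 0x71e012d .nil .nil)) (.node 0x866012d (.node 0x31400f0012d .nil .nil) .nil))) (.node 1 (.node 0x60c0001 (.node 0x54a09940001 (.node 301 .nil .nil)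 (.node 301 .nil .nil)) (.node 0x2600001 (.node 0x17a07f2012d .nil .nil) .nil)) (.node 1 (.node 0x33e0001 (.node 0x21c012d .nil .nil) (.node 0x218012d .nil .nil)) (.node 0x67e04a6012d (.node 0x128099c012d .nil .nil) .nil)))) (.node 0x5960001 (.node 1 (.node 0x23a07ce0001 (.node 1 (.node 0x18e0a1a012d .nil .nil) (.node 0x2070a012d .nil .nil)) (.node 0x30e07a40001 (.node 0x622012d .nil .nil) .nil)) (.node 1 (.node 0x25c00fc0001 (.node 301 .nil .nil) (.node 301 .nil .nil)) (.node 0x854012d (.node 0x3f405e2012d .nil .nil) .nil))) (.node 1 (.node 0x16402000001 (.node 0x36c05740001 (.node 0x1720318012d .nil .nil) (.node 0x280012d .nil .nil)) (.node 0x3c004bc012d (.node 301 .nil .nil) .nil)) (.node 0x74204940001 (.node 0x6cc0001 (.node 0x4820a30012d .nil .nil) .nil) (.node 0x14000f8012d (.node 0x74005e8012d .nil .nil) .nil))))))))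

/-- Data. -/
noncomputable def cand7 : Arr (ℕ) := (.node 1 (.node 4 (.node 0x46400ee0001 (.node 0x178096c0001 (.node 0x56804f60001 (.node 94 (.node 174 (.node 0x92c0001 (.node 301 .nil .nil) (.node 0x8be012d .nil .nil)) (.node 510 (.node 301 .nil .nil) .nil)) (.node 0x3608e60001 (.node 0x3d200ca0001 (.node 0x284012d .nil .nil) (.node 0x6c4088a012d .nil .nil)) (.node 0x20009fc012d (.node 0x77e0390012d .nil .nil) .nil))) (.node 0x49208300001 (.node 0x2ca0001 (.node 0x6d2072e0001 (.node 301 .nil .nil) (.node 0x60e013c012d .nil .nil)) (.node 0x3140001 (.node 301 .nil .nil) .nil)) (.node 0x68e0001 (.node 468 (.node 301 .nil .nil) (.node 301 .nil .nil)) (.node 0x3fa0372012d (.node 0x6e806fe012d .nil .nil) .nil)))) (.node 0x246023e0001 (.node 0x404094c0001 (.node 0x20e034c0001 (.node 0x40a04ea0001 (.node 0x662012d .nil .nil) (.node 301 .nil .nil)) (.node 1 (.node 0x86e012d .nil .nil) .nil)) (.node 0x35806320001 (.node 454 (.node 301 .nil .nil) (.node 0x682012d .nil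 .nil)) (.node 0x4d80610012d (.node 0x7e2097e012d .nil .nil) .nil))) (.node 1 (.node 1 (.node 0x1da01700001 (.node 0x6ce012d .nil .nil) (.node 301 .nil .nil)) (.node 0x4e00001 (.node 0xd20a18012d .nil .nil) .nil)) (.node 1 (.node 0x3d800280001 (.node 0xb0092e012d .nil .nil) (.node 0x7b203bc012d .nil .nil)) (.node 0x4c80150012d (.node 0x146012d .nil .nil) .nil))))) (.node 0x7602f60001 (.node 54 (.node 104 (.node 182 (.node 0x7d807980001 (.node 0xa2e012d .nil .nil) (.node 0xa2a012d .nil .nil)) (.node 0x2de04d60001 (.node 0x3bc076c012d .nil .nil) .nil)) (.node 0x35e02c80001 (.node 1 (.node 0x1f80398012d .nil .nil) (.node 0x5580500012d .nil .nil)) (.node 0x2406dc012d (.node 0x1da06c2012d .nil .nil) .nil))) (.node 0x5b8042a0001 (.node 0x3f8065c0001 (.node 0x72402180001 (.node 0x2d6012d .nil .nil) (.node 0x3760760012d .nil .nil)) (.node 0x59e02260001 (.node 301 .nil .nil) .nil)) (.node 1 (.node 482 (.node 301 .nil .nil) (.node 0x1409c6012d .nil .nil)) (.node 0x7da012d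 (.node 0x56806c0012d .nil .nil) .nil)))) (.node 0x7480001 (.node 1 (.node 202 (.node 0x3f40001 (.node 0x7140672012d .nil .nil) (.node 0x58600c6012d .nil .nil)) (.node 0x5b408060001 (.node 0x7c2012d .nil .nil) .nil)) (.node 0x51a00700001 (.node 0x60203d40001 (.node 0x53a0654012d .nil .nil) (.node 0x28c012d .nil .nil)) (.node 0x2ce033a012d (.node 301 .nil .nil) .nil))) (.node 0x61c0001 (.node 0x518047e0001 (.node 1 (.node 0x60e012d .nil .nil) (.node 0x50a005e012d .nil .nil)) (.node 1 (.node 0x93c012d .nil .nil) .nil)) (.node 0x1e207be0001 (.node 1 (.node 301 .nil .nil) (.node 0xa5c012d .nil .nil)) (.node 0x242012d (.node 0x30a05a6012d .nil .nil) .nil)))))) (.node 0x2007a00001 (.node 0x18c09760001 (.node 0x35002280001 (.node 1 (.node 0x7ae08ac0001 (.node 0x9480001 (.node 0x1b40750012d .nil .nil) (.node 0x49c09c4012d .nil .nil)) (.node 1 (.node 301 .nil .nil) .nil)) (.node 268 (.node 442 (.node 0x35c012d .nil .nil) (.node 0x7160050012d .nil .nil)) (.node 0x72409e6012d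 (.node 0x7c009b8012d .nil .nil) .nil))) (.node 1 (.node 220 (.node 0x1e4064c0001 (.node 0x678012d .nil .nil) (.node 0x13602b4012d .nil .nil)) (.node 0x1560001 (.node 0x14607e8012d .nil .nil) .nil)) (.node 300 (.node 0x3f202c60001 (.node 0x73003ac012d .nil .nil) (.node 0x5700426012d .nil .nil)) (.node 301 (.node 0x5840844012d .nil .nil) .nil)))) (.node 76 (.node 0x95c0001 (.node 196 (.node 0x62e0001 (.node 0x2d203da012d .nil .nil) (.node 0x21602e0012d .nil .nil)) (.node 538 (.node 0xa6c012d .nil .nil) .nil)) (.node 1 (.node 0x45208d20001 (.node 0x4920974012d .nil .nil) (.node 0x1360044012d .nil .nil)) (.node 0x4ee012d (.node 0x4f0012d .nil .nil) .nil))) (.node 1 (.node 238 (.node 0x76e06340001 (.node 0x5de0410012d .nil .nil) (.node 0x13803ce012d .nil .nil)) (.node 0x2c001e20001 (.node 0x5f6012d .nil .nil) .nil)) (.node 1 (.node 0xa380001 (.node 301 .nil .nil) (.node 301 .nil .nil)) (.node 0x2fe0958012d (.node 0x5e00944012d .nil .nil) .nil))))) (.node 1 (.node 0x3ca0001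 (.node 0x2e806ec0001 (.node 188 (.node 366 (.node 0x5ba016e012d .nil .nil) (.node 301 .nil .nil)) (.node 0xe602a40001 (.node 0x1120652012d .nil .nil) .nil)) (.node 280 (.node 452 (.node 301 .nil .nil) (.node 0x260070c012d .nil .nil)) (.node 0x25c0324012d (.node 0x2a6012d .nil .nil) .nil))) (.node 1 (.node 0x7f402940001 (.node 1 (.node 0x52e012d .nil .nil) (.node 0x4e8039c012d .nil .nil)) (.node 0x3ae0001 (.node 0x6b4012d .nil .nil) .nil)) (.node 318 (.node 0x41e043e0001 (.node 0x79e0240012d .nil .nil) (.node 0xe40238012d .nil .nil)) (.node 0x802012d (.node 0x7800870012d .nil .nil) .nil)))) (.node 0x60007960001 (.node 1 (.node 0x3ca097c0001 (.node 0x63605280001 (.node 0x10e006e012d .nil .nil) (.node 0x5a801cc012d .nil .nil)) (.node 0x77601fa0001 (.node 0x6c047c012d .nil .nil) .nil)) (.node 0x460001 (.node 0x3280001 (.node 301 .nil .nil) (.node 0x58c012d .nil .nil)) (.node 0x2b006ca012d (.node 0x374055e012d .nil .nil) .nil))) (.node 0x5300001 (.node 0x506052c0001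 (.node 1 (.node 0x252012d .nil .nil) (.node 301 .nil .nil)) (.node 594 (.node 0x46a0638012d .nil .nil) .nil)) (.node 0x34a04c20001 (.node 0x60209c60001 (.node 301 .nil .nil) .nil) (.node 0x6240714012d (.node 0x5f60076012d .nil .nil) .nil))))))) (.node 8 (.node 0x13e05d80001 (.node 0xdc03da0001 (.node 0x48203920001 (.node 0x7160001 (.node 178 (.node 1 (.node 0x7bc00b0012d .nil .nil) (.node 0x698012d .nil .nil)) (.node 0x4e07580001 (.node 0x3b607f0012d .nil .nil) .nil)) (.node 262 (.node 0x7580a560001 (.node 0x5b608c4012d .nil .nil) (.node 0xa00012d .nil .nil)) (.node 301 (.node 0x43a0412012d .nil .nil) .nil))) (.node 1 (.node 0x448071a0001 (.node 0x4c06c40001 (.node 301 .nil .nil) (.node 0x3900164012d .nil .nil)) (.node 0x25407720001 (.node 0x66c03e4012d .nil .nil) .nil)) (.node 296 (.node 1 (.node 0x72c0070012d .nil .nil) (.node 0x7c80550012d .nil .nil)) (.node 301 (.node 0x5be0112012d .nil .nil) .nil)))) (.node 0x67c0001 (.node 1 (.node 0x1f00001 (.node 1 (.node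 0x2a60058012d .nil .nil) (.node 301 .nil .nil)) (.node 0x2a6007e0001 (.node 0x88e012d .nil .nil) .nil)) (.node 1 (.node 456 (.node 0xbc06ee012d .nil .nil) (.node 0x5a0094a012d .nil .nil)) (.node 0x6ec012d (.node 301 .nil .nil) .nil))) (.node 0xb00001 (.node 234 (.node 1 (.node 0x7300846012d .nil .nil) (.node 301 .nil .nil)) (.node 0x6fe0001 (.node 0x4b602ee012d .nil .nil) .nil)) (.node 0x6a005840001 (.node 0x7bc03ec0001 (.node 301 .nil .nil) (.node 0x2ce012d .nil .nil)) (.node 0x26a012d (.node 0x286012d .nil .nil) .nil))))) (.node 0x3f407900001 (.node 1 (.node 1 (.node 0xa500001 (.node 0x98083e0001 (.node 0x872012d .nil .nil) (.node 0x7b207f8012d .nil .nil)) (.node 0x62a0001 (.node 0x2920684012d .nil .nil) .nil)) (.node 1 (.node 0x5f80001 (.node 0x46a095e012d .nil .nil) (.node 0x7dc0658012d .nil .nil)) (.node 0xd80000012d (.node 0x12a0986012d .nil .nil) .nil))) (.node 1 (.node 0x18001e80001 (.node 1 (.node 0x458012d .nil .nil) (.node 301 .nil .nil)) (.node 1 (.node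 0x3f405ae012d .nil .nil) .nil)) (.node 310 (.node 1 (.node 0x860002012d .nil .nil) (.node 0x35e072a012d .nil .nil)) (.node 0x59403f0012d (.node 0x7e00a76012d .nil .nil) .nil)))) (.node 0x3860a640001 (.node 1 (.node 0x5780001 (.node 0x2bc09660001 (.node 301 .nil .nil) (.node 0x14c008e012d .nil .nil)) (.node 0x23802b80001 (.node 0x6e08fc012d .nil .nil) .nil)) (.node 0x36a07f20001 (.node 1 (.node 0x5e6012d .nil .nil) (.node 0x2b401ec012d .nil .nil)) (.node 0x89c012d (.node 0x3c00544012d .nil .nil) .nil))) (.node 0x19e07420001 (.node 0x4a8041e0001 (.node 0x36a056e0001 (.node 301 .nil .nil) (.node 0x70202cc012d .nil .nil)) (.node 0xa5c0001 (.node 0x3900104012d .nil .nil) .nil)) (.node 1 (.node 502 (.node 0x804012d .nil .nil) (.node 301 .nil .nil)) (.node 0x57e012d (.node 0x37e098c012d .nil .nil) .nil)))))) (.node 0x37800220001 (.node 0x6940001 (.node 0x20e03f20001 (.node 0x1dc04ce0001 (.node 0x364079a0001 (.node 0x15c0001 (.node 0x2380aa8012d .nil .nil) (.node 0x6a005c2012d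 .nil .nil)) (.node 0x2d600c20001 (.node 0x5880674012d .nil .nil) .nil)) (.node 1 (.node 0xa601dc0001 (.node 0xaa4012d .nil .nil) (.node 0x9e8012d .nil .nil)) (.node 0x35a08f8012d (.node 0x6320188012d .nil .nil) .nil))) (.node 1 (.node 1 (.node 1 (.node 0x5140764012d .nil .nil) (.node 0x2d408bc012d .nil .nil)) (.node 1 (.node 0x4f004d8012d .nil .nil) .nil)) (.node 0x21a0001 (.node 0x5680001 (.node 0x3ee00aa012d .nil .nil) (.node 0x4d60702012d .nil .nil)) (.node 301 (.node 0x7b20864012d .nil .nil) .nil)))) (.node 1 (.node 118 (.node 1 (.node 1 (.node 0x50c012d .nil .nil) (.node 0x5ce078c012d .nil .nil)) (.node 0xa208d80001 (.node 0x60c053e012d .nil .nil) .nil)) (.node 0x3ea0001 (.node 1 (.node 301 .nil .nil) (.node 301 .nil .nil)) (.node 301 (.node 0x6fe0192012d .nil .nil) .nil))) (.node 154 (.node 242 (.node 0x320001 (.node 0x26e03e0012d .nil .nil) (.node 0x44e0470012d .nil .nil)) (.node 592 (.node 0x8ec012d .nil .nil) .nil)) (.node 0x12e076c0001 (.node 0x6208440001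 (.node 0x48409ca012d .nil .nil) (.node 0x73e03cc012d .nil .nil)) (.node 0x4820292012d (.node 0xa7c012d .nil .nil) .nil))))) (.node 1 (.node 0x15a0001 (.node 108 (.node 1 (.node 1 (.node 0x1ca05aa012d .nil .nil) (.node 0x404012d .nil .nil)) (.node 530 (.node 0x4f2076a012d .nil .nil) .nil)) (.node 0x180001 (.node 0x1aa07840001 (.node 0x2fa012d .nil .nil) (.node 0xa8e012d .nil .nil)) (.node 0x400012d (.node 0x140061c012d .nil .nil) .nil))) (.node 0x7c80001 (.node 0x1f408f00001 (.node 1 (.node 0x4c40016012d .nil .nil) (.node 301 .nil .nil)) (.node 1 (.node 301 .nil .nil) .nil)) (.node 1 (.node 486 (.node 0x1020a7a012d .nil .nil) (.node 0x3f80520012d .nil .nil)) (.node 301 (.node 301 .nil .nil) .nil)))) (.node 0x27a08140001 (.node 0x9300001 (.node 0x4c803620001 (.node 392 (.node 0x7fe012d .nil .nil) (.node 301 .nil .nil)) (.node 560 (.node 0x43000ea012d .nil .nil) .nil)) (.node 292 (.node 0x3aa01f60001 (.node 0x3f40862012d .nil .nil) (.node 301 .nil .nil)) (.node 0x50c059e012d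 (.node 0x50a07d2012d .nil .nil) .nil))) (.node 168 (.node 0x1c00a620001 (.node 0x4da063c0001 (.node 0x39c049e012d .nil .nil) (.node 301 .nil .nil)) (.node 0x5de012d (.node 301 .nil .nil) .nil)) (.node 0x7ae0001 (.node 0x5c80001 (.node 301 .nil .nil) .nil) (.node 0x7d40736012d (.node 0x48e0584012d .nil .nil) .nil))))))))

/-- Data. -/
noncomputable def candTab : List (Arr ℕ) := [cand0, cand1, cand2, cand3, cand4, cand5, cand6, cand7]

/-- Data. -/
noncomputable def els_0 : Arr (List ℕ) := (.node [] (.node [9,16,16,6,15,18,13,11,15,15,15,18] (.node [16,9,9,14,12,12,12,18,16,15,15] (.node [7,17,12,6,6,17,18,17,10,16,15,18,15] (.node [8,12,15,8,10,17,13,16,16,14] (.node [9,18,6,6,12,18,11,17,18,17,15] (.node [13,8,12,7,11,15,11,12,17,17] (.node [18,12,8,6,15,10,10,10,14,14] (.node [11,11,6,6,17,11,17,15,15] .nil .nil) .nil) (.node [16,11,9,16,13,17,11,15,18,15,17] .nil .nil)) (.node [6,16,12,6,15,11,16,10,17,18,16] (.node [12,17,7,14,13,11,14,18,14] (.node [14,6,6,12,18,13,14,10,15,18,16,14]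 .nil .nil) .nil) (.node [16,10,8,14,14,12,17,17,15,15] .nil .nil))) (.node [7,9,14,6,16,11,18,13,17,18,14,14] (.node [7,11,9,6,14,14,12,18,15,15,18] (.node [10,6,18,16,12,17,14,18,14] (.node [13,8,18,11,11,15,18,17,17,14] .nil .nil) .nil) (.node [7,18,9,6,17,13,14,11,17,17,15,15] .nil .nil)) (.node [15,6,14,6,16,14,14,11,16,16,14] (.node [14,18,10,6,15,13,10,12,10,15,18,16,16,15] .nil .nil) (.node [10,8,6,17,14,11,16,14,18] .nil .nil)))) (.node [16,18,8,6,18,12,10,14,10,18,15,17] (.node [11,9,10,18,17,17,10,17,18,15,15] (.node [6,13,7,8,13,16,16,11,18,17,15] (.node [13,7,7,18,13,14,11,14,14,18,17,14] (.node [14,14,6,6,13,16,16,10,17,18] .nil .nil) .nil) (.node [8,15,8,14,11,12,15,10,16,14,14] .nil .nil)) (.node [13,6,8,12,11,18,12,18,16,16] (.node [8,18,13,6,18,13,17,14,10,17,18,14,14] (.node [10,13,8,6,15,11,17,11,17,18,17,15,15] .nil .nil) .nil) (.node [8,6,9,6,12,10,18,10,17,18,17,14] .nil .nil))) (.node [9,7,13,6,12,10,12,12,17,17,15,15] (.node [14,8,12,7,10,14,18,10,16,15,18,15]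 (.node [16,7,17,6,15,10,13,18,17,17,14] (.node [8,11,9,16,12,14,11,14,14,18,14] .nil .nil) .nil) (.node [11,11,15,6,14,12,12,10,15,18,16,14] .nil .nil)) (.node [6,6,6,16,15,13,11,17,14,18,16,14] (.node [10,14,6,14,14,14,10,16,18,15] .nil .nil) (.node [13,14,13,9,16,13,14,13,10,17,15,18] .nil .nil))))) (.node [8,8,8,15,11,12,17,18] (.node [9,14,18,6,10,17,12,18,15,15,18,16] (.node [14,11,6,6,16,13,18,11,14,16,15] (.node [13,6,6,15,13,13,10,15,18,17,17,15] (.node [6,8,7,8,13,16,13,11,16,18,16,16] (.node [11,11,9,12,17,11,11,14,18,14,14] .nil .nil) .nil) (.node [6,11,12,7,15,13,15,10,18,17,17,14] .nil .nil)) (.node [12,6,16,10,13,16,16] (.node [15,8,7,16,12,15,10,17,14,18,14] (.node [9,10,6,11,12,12,11,14,18,16] .nil .nil) .nil) (.node [17,13,10,6,10,16,12,11,17,18,17,15,15] .nil .nil))) (.node [11,18,9,10,12,11,14,18,16,16,14] (.node [13,17,11,6,10,10,12,10,14,14,18] (.node [8,18,8,7,16,18,13,17,15,15,18] (.node [18,9,13,7,16,13,11,13,16,18,16,14,14] .nil .nil)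 .nil) (.node [17,13,9,6,14,18,10,10,18,15,15,15] .nil .nil)) (.node [6,13,8,6,6,17,10,13,14,16,15,18] (.node [8,11,12,6,16,18,15,11,14,18,16,16] .nil .nil) (.node [16,15,13,8,15,10,12,10,18,15,15,18,16] .nil .nil)))) (.node [18,7,16,8,14,10,15,10,16,16,14,14] (.node [8,13,6,6,13,16,18,10,18,17,17,15] (.node [8,15,10,6,14,14,18,13,14,14] (.node [7,18,8,13,11,17,13,18,16,16,14,14] (.node [7,7,18,7,12,12,18,11,18,14,14,14] .nil .nil) .nil) (.node [15,15,10,6,11,18,12,14,18,15,15] .nil .nil)) (.node [11,13,6,15,18,15,11,14,14,14,18,14] (.node [12,7,16,7,16,12,18,13,17,18,17,14] (.node [15,9,12,11,12,10,16,18,16,16] .nil .nil) .nil) (.node [14,12,8,6,11,11,14,18] .nil .nil))) (.node [16,16,9,13,16,13,15,10,17,17] (.node [17,17,11,6,15,12,15,12,10,15,15,18,14] (.node [15,11,16,6,17,11,14,10,17,18,16,15] (.node [8,7,9,16,14,11,11,17,18,16,15] .nil .nil) .nil) (.node [12,18,6,6,13,17,10,13,18] .nil .nil)) (.node [13,7,14,10,17,18,16,15] (.node [11,8,12,7,10,16,11,11,14,14,14,18,14]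 .nil .nil) (.node [10,8,12,18,17,11,17,17] .nil .nil)))))) (.node [18,11,6,14,10,14,14,12,16,15,18,14] (.node [7,15,6,17,14,13,11,18,15] (.node [18,12,10,6,16,12,17,12,10,17,14,14] (.node [8,15,6,6,15,13,18,12,10,18,16,15,18] (.node [14,14,10,6,11,14,10,16,18,16] (.node [7,15,15,6,12,18,13,13,16,14,14] (.node [18,14,6,6,17,15,18,11,17,15,15,18] .nil .nil) .nil) (.node [16,16,8,6,14,14,18,13,10,15,15] .nil .nil)) (.node [12,11,12,7,15,17,18,11,14] (.node [15,18,6,16,13,11,13,14,16,18,16] (.node [14,7,8,14,12,15,12,16,15,15] .nil .nil) .nil) (.node [9,7,9,13,15,15,11,14,16,18,15] .nil .nil))) (.node [8,13,18,10,6,10,14,12,11,17,17,14] (.node [6,13,17,8,14,14,13,11,17,14,14] (.node [7,8,6,6,18,12,10,14,18] (.node [16,14,7,7,12,12,18,12,17,15,15,18,16] .nil .nil) .nil) (.node [7,7,7,17,10,12,11,17,18,17] .nil .nil)) (.node [15,6,9,12,18,13,11,18,17,15,15] (.node [14,18,15,6,13,13,16,11,17,17,14] .nil .nil) (.node [8,6,9,15,12,11,13,10,14,18,14] .nil .nil)))) (.node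 [14,14,7,8,18,12,12,17,18,14] (.node [9,9,7,17,17,13,10,15,18,17,15] (.node [9,15,17,6,17,11,14,16,10,18,14] (.node [9,12,15,10,10,17,17,15] (.node [10,15,13,6,15,18,13,11,14,18,16,15] .nil .nil) .nil) (.node [16,6,16,8,14,13,10,14,16] .nil .nil)) (.node [6,11,9,18,13,16,13,10,17,15,18,14,14] (.node [7,14,9,6,12,14,18,10,10,18,15,17] (.node [6,14,9,14,13,13,10,17,17] .nil .nil) .nil) (.node [13,8,7,7,11,15,13,16,14] .nil .nil))) (.node [18,15,8,10,13,10,16,18,16] (.node [7,15,18,8,16,13,16,16,10,16,18,16,14,14] (.node [12,6,6,6,16,15,13,11,15,15,18,15] (.node [18,9,9,12,11,18,12,18,15,15,18,16] .nil .nil) .nil) (.node [6,17,11,6,17,13,18,17,15,18] .nil .nil)) (.node [17,6,9,13,13,15,13,17,15,18,16] (.node [7,8,17,8,12,11,12,16,18,16,14] .nil .nil) (.node [13,11,9,17,13,10,12,10,17,14,18,14] .nil .nil))))) (.node [8,10,9,15,11,12,10,15,18,16,16,15] (.node [11,12,8,7,16,16,14,10,17,15,18] (.node [8,17,12,6,14,10,18,16,14,14] (.node [12,8,14,7,16,13,13,10,14,18,14,14]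 (.node [16,14,12,7,13,15,12,14,11,17,14] (.node [6,6,6,9,6,14,14,18,13,10,15,18,16,16,14] .nil .nil) .nil) (.node [10,9,11,6,16,12,15,13,10,15,15,15,18] .nil .nil)) (.node [11,16,16,6,14,12,15,10,15,18,17,15] (.node [9,13,6,6,17,13,16,11,18,16,16] (.node [12,6,15,7,13,18,10,13,10,18,17,17,14] .nil .nil) .nil) (.node [9,9,11,6,13,14,14,12,15,18,17,17] .nil .nil))) (.node [13,18,6,6,10,18,16,10,14,18,14,16] (.node [11,15,6,14,10,15,13,10,18,16,16] (.node [12,15,8,16,11,15,11,18,15,15,18,16] (.node [8,6,10,15,15,11,16,15,15] .nil .nil) .nil) (.node [9,13,9,9,13,11,13,15,18,16,16] .nil .nil)) (.node [17,7,9,12,17,18,12,16,15,15,18] (.node [7,9,6,11,11,18,11,15,17,18,14] .nil .nil) (.node [16,6,15,7,12,10,15,18,15] .nil .nil)))) (.node [11,9,17,6,15,15,10,12,17,15,15,18] (.node [8,11,18,6,17,14,11,14,16,15] (.node [11,13,7,7,18,13,14,10,14,18,17,15] (.node [11,6,17,6,12,11,18,11,14,18,15] (.node [14,16,8,11,14,14,12,17,18,16,14] .nil .nil) .nil) (.node [10,14,10,6,16,15,10,15,10,17,18,17,14]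 .nil .nil)) (.node [12,6,8,7,12,14,12,14,18,14,16] (.node [9,18,8,18,17,11,17,10,16,18,16,15] .nil .nil) (.node [7,17,12,6,18,15,13,14,18,17,15] .nil .nil))) (.node [6,12,6,6,15,11,14,16,15,18] (.node [11,7,8,18,17,14,11,17,15,18,16] (.node [14,13,6,14,10,14,11,18,16,16,14,14] (.node [12,14,10,6,10,14,18,13,10,17,14,18,14] .nil .nil) .nil) (.node [13,17,12,7,10,12,10,10,14,18,17,15] .nil .nil)) (.node [15,15,9,18,11,16,10,10,18,17,14,18] (.node [16,16,8,18,12,18,16,15,18] .nil .nil) (.node [14,8,12,6,10,12,11,11,16,18,16,14,14] .nil .nil))))))) (.node [18,7,11,6,14,13,10,14,18,17,15] (.node [12,10,13,6,15,12,17,11,18,14,14] (.node [16,12,7,14,18,11,12,15,15,18,14] (.node [6,8,6,6,10,17,14,10,16,15,18,15] (.node [8,11,8,6,12,16,14,10,14,16,18,15] (.node [9,16,6,12,16,14,14,10,18,15] (.node [11,6,8,18,17,10,16,15,15,18] (.node [16,14,11,6,13,10,13,18,17,15,18,15] .nil .nil) .nil) (.node [11,16,9,10,16,10,13,17,15,18,14,14] .nil .nil)) (.node [18,7,8,18,16,11,12,15,18,17,17,15]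 (.node [9,14,6,6,13,17,15,18,14] (.node [6,17,11,8,12,10,16,11,18,16,14,18] .nil .nil) .nil) (.node [10,17,6,6,11,18,17,10,15,15,18,16] .nil .nil))) (.node [14,18,14,6,12,17,13,11,15,18,14,16,14] (.node [14,13,7,13,15,17,12,16,18,16,16] (.node [18,6,18,6,17,14,10,12,18,15,15,18] (.node [13,9,7,7,18,11,17,10,16,15,15,18] .nil .nil) .nil) (.node [14,9,18,11,17,18,17,14] .nil .nil)) (.node [6,11,7,7,13,14,13,14,18,17] (.node [13,18,14,7,16,18,15,11,15,15,15,18,14] .nil .nil) (.node [7,14,6,6,17,11,14,12,10,14,14] .nil .nil)))) (.node [16,14,6,6,18,17,12,18,15,15,15] (.node [16,8,10,6,18,14,14,11,18,17,14,18] (.node [11,12,7,7,17,15,13,17,14,18,16] (.node [11,16,6,11,11,18,16,15,18] (.node [14,18,10,7,11,14,13,10,15,18,17] .nil .nil) .nil) (.node [10,6,9,15,15,13,11,17,15,18,14,14] .nil .nil)) (.node [8,8,6,14,10,14,10,10,17,18,16,15] (.node [16,16,7,16,14,12,12,15,18,17,14] (.node [6,11,11,9,10,10,18,10,15,18,17,17] .nil .nil) .nil) (.node [8,7,10,6,12,11,18,10,18,15]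 .nil .nil))) (.node [10,6,8,8,15,13,11,15,18,17,15] (.node [9,11,12,7,12,16,14,14,10,17,15,18,14] (.node [9,18,14,6,6,15,15,12,10,10,17,15] (.node [15,10,7,7,10,10,16,13,10,18,16,15] .nil .nil) .nil) (.node [16,11,15,7,14,10,14,14,11,18,16,14,18,16] .nil .nil)) (.node [12,12,6,6,14,11,15,13,16,15] (.node [17,6,8,6,6,10,13,17,15,15,18] .nil .nil) (.node [8,13,9,13,10,18,11,16,14] .nil .nil))))) (.node [7,8,12,7,11,12,14,13,17,17,15] (.node [6,18,6,15,12,17,11,18,14,14,18] (.node [13,6,6,6,12,10,12,18,14,14,14] (.node [16,6,11,9,15,18,10,10,17,18,15] (.node [11,12,6,13,11,15,10,15,15,15] (.node [7,17,7,14,10,15,12,14,14,18] .nil .nil) .nil) (.node [15,13,6,10,16,10,12,15,17,18] .nil .nil)) (.node [18,14,6,11,17,15,10,17,18,17,14] (.node [18,8,6,10,14,11,11,17,18,17,15,15] (.node [18,9,6,12,17,10,12,10,18,14,14,14] .nil .nil) .nil) (.node [6,11,6,6,17,13,16,11,16,14,14] .nil .nil))) (.node [10,9,7,11,14,10,13,15,18,15] (.node [8,7,11,6,11,18,17,10,10,14,18,17,15]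 (.node [7,11,15,6,12,14,13,18] (.node [7,13,16,8,10,13,11,15,18,14] .nil .nil) .nil) (.node [7,17,8,17,15,11,13,10,18,17,15,18] .nil .nil)) (.node [12,14,18,6,14,12,10,12,15,18,17] (.node [17,17,6,6,13,13,11,15,10,15,15,15,18] .nil .nil) (.node [11,13,14,6,13,10,17,12,16,14,18,16] .nil .nil)))) (.node [12,6,14,7,16,16,13,17,14,18,16,14] (.node [16,12,8,12,17,13,11,18,15,15,15] (.node [17,17,6,13,16,14,12,17,17] (.node [10,9,16,18,16,10,18,15,17,14] (.node [15,6,8,6,14,13,13,10,14,18] .nil .nil) .nil) (.node [10,14,6,6,15,18,11,11,16] .nil .nil)) (.node [12,6,13,6,16,10,13,11,14,18,16,14] (.node [12,9,9,6,12,16,10,18,17,17,14] .nil .nil) (.node [10,10,8,6,18,10,13,10,14,18,17,14] .nil .nil))) (.node [10,9,12,6,16,14,11,11,16,18,16,14] (.node [10,13,6,15,10,15,10,15,18,16,14] (.node [6,10,7,16,11,12,10,10,16,14,14] (.node [12,15,15,6,10,12,16,18,16,16,14] .nil .nil) .nil) (.node [12,18,9,17,15,10,10,10,14,16,18,14,14] .nil .nil)) (.node [15,7,11,6,13,16,12,10,15,18,15]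 (.node [18,16,7,14,18,11,12,16,18,15,15] .nil .nil) (.node [15,6,13,9,17,11,17,10,16,16,15] .nil .nil)))))) (.node [15,7,18,11,14,18,16,16,14] (.node [13,7,12,7,17,12,11,14,18,15,15,15] (.node [6,16,13,6,13,17,11,12,10,16,15,18,15] (.node [15,18,8,15,18,13,13,15,15,18,17] (.node [12,17,6,13,10,15,10,17,17,14] (.node [6,6,11,6,18,17,13,11,15,15,18,14] (.node [6,6,8,7,18,14,13,15,15,18,14] .nil .nil) .nil) (.node [12,11,9,13,11,12,10,15,15,18,15] .nil .nil)) (.node [12,8,15,7,11,14,10,12,15,15,18,17] (.node [11,9,15,7,14,13,16,10,14,18,16,14] (.node [15,13,11,6,16,12,12,10,17,18,17] .nil .nil) .nil) (.node [8,18,8,6,16,13,13,10,15] .nil .nil))) (.node [17,14,6,14,10,14,10,10,16,14,18,16] (.node [15,9,12,6,10,13,15] (.node [13,11,9,6,11,14,12,11,18,16,16,14,14] (.node [8,10,6,15,11,12,10,16,18,15] .nil .nil) .nil) (.node [18,17,9,10,18,13,11,14] .nil .nil)) (.node [8,12,15,7,15,15,10,10,14,18,14] (.node [6,14,11,6,10,18,14,10,15,17,18,14] .nil .nil) (.node [17,11,8,10,12,12,10,17,17]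 .nil .nil)))) (.node [9,9,16,6,16,12,11,15,18,16,15] (.node [13,7,8,11,12,14,13,14,16,18,16,14] (.node [15,13,18,6,12,12,18,13,10,18,16,16,15] (.node [14,11,8,6,10,18,14,10,18,16,14] (.node [7,10,9,15,11,18,16,15,18] .nil .nil) .nil) (.node [11,18,13,6,14,16,11,14,10,17,17,15] .nil .nil)) (.node [13,7,11,6,18,11,18,11,18,16,16,14] (.node [8,8,12,7,12,17,12,18,16] (.node [17,14,18,6,11,14,13,11,17,15,15,18,16] .nil .nil) .nil) (.node [9,13,8,6,15,18,16,10,10,14,16,14] .nil .nil))) (.node [12,10,9,6,17,12,12,14,14,14] (.node [7,15,17,6,18,17,17,13,10,16,18,16,16] (.node [18,12,7,16,12,10,10,18,17,17,15] (.node [7,8,14,6,10,12,15,12,14,18,17,17] .nil .nil) .nil) (.node [9,9,9,18,14,12,17,17,15,15] .nil .nil)) (.node [13,8,7,18,15,13,13,17,18,15,15] (.node [6,6,13,6,15,10,16,10,10,17,15,18,16] .nil .nil) (.node [13,9,7,11,16,15,18] .nil .nil))))) (.node [8,17,6,17,17,15,12,15,18,16,16,14] (.node [13,10,10,8,15,11,17,12,16,14,18] (.node [14,12,6,6,10,10,12,10,18,15,17]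 (.node [12,9,13,6,6,14,10,18,14,14,18] (.node [13,18,14,8,15,18,13,11,17,18,17,15,15] (.node [6,8,8,6,11,18,17,12,16,18,15,15] .nil .nil) .nil) (.node [9,9,15,6,17,15,11,17,14,18,16] .nil .nil)) (.node [9,17,6,17,11,18,10,10,15] (.node [18,15,6,6,16,13,10,13,10,14,18,17,17,14] (.node [6,8,10,7,17,14,10,15,18,16,16] .nil .nil) .nil) (.node [6,17,6,6,17,12,10,17,14,18] .nil .nil))) (.node [18,6,8,7,11,17,14,10,18,17,17,15] (.node [15,6,16,6,12,15,13,10,17,18] (.node [8,17,18,6,18,17,17,13,10,17,15,15,18] (.node [10,7,13,7,11,16,12,10,18,17,15] .nil .nil) .nil) (.node [14,10,9,17,12,11,14,16,18,16] .nil .nil)) (.node [17,13,9,13,11,12,12,18] (.node [8,11,17,7,14,13,18,17,17] .nil .nil) (.node [14,14,6,10,13,14,12,10,18,16,14,18] .nil .nil)))) (.node [6,14,8,7,14,10,18,16,16] (.node [11,7,12,6,15,11,17,11,15,18,15,17] (.node [7,13,8,16,12,10,14,18,14] (.node [7,10,14,6,17,18,12,16,15,15,18] (.node [11,18,8,6,11,12,14,13,15,15,18,16] .nil .nil) .nil) (.node [11,13,8,17,11,18,10,14,18,16,16,14]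 .nil .nil)) (.node [18,7,13,7,16,16,10,10,18,14,16] (.node [10,12,8,6,11,14,10,13,16,16,15] .nil .nil) (.node [14,18,6,12,18,17,13,11,16,15,15] .nil .nil))) (.node [16,18,8,12,14,10,15,15,18,15] (.node [15,6,6,11,12,14,13,18,17,15] (.node [13,14,8,6,13,17,18,11,18,17,15] (.node [16,9,9,6,14,14,18,13,10,17,14,18,15] .nil .nil) .nil) (.node [8,17,10,6,12,16,13,11,15,18,17,17,15] .nil .nil)) (.node [13,9,12,6,17,10,12,10,14,14,18] (.node [9,10,7,17,10,16,11,18,15,15,18,16] .nil .nil) (.node [11,11,7,8,10,12,12,10,18,17,14,18] .nil .nil))))))))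

/-- Data. -/
noncomputable def els : Arr (List ℕ) := els_0

/-- Data. -/
noncomputable def kinds : Arr (ℕ) := (.node 1 (.node 2 (.node 60 (.node 60 (.node 6 (.node 60 (.node 60 (.node 60 (.node 39 .nil .nil) .nil) (.node 60 .nil .nil)) (.node 20 (.node 26 (.node 60 .nil .nil) .nil) (.node 60 .nil .nil))) (.node 60 (.node 17 (.node 60 (.node 60 .nil .nil) .nil) (.node 60 .nil .nil)) (.node 60 (.node 30 .nil .nil) (.node 60 .nil .nil)))) (.node 60 (.node 60 (.node 60 (.node 60 (.node 42 .nil .nil) .nil) (.node 60 .nil .nil)) (.node 60 (.node 60 (.node 60 .nil .nil) .nil) (.node 60 .nil .nil))) (.node 14 (.node 60 (.node 60 (.node 60 .nil .nil) .nil) (.node 60 .nil .nil)) (.node 23 (.node 60 .nil .nil) (.node 38 .nil .nil))))) (.node 60 (.node 60 (.node 60 (.node 60 (.node 60 (.node 60 .nil .nil) .nil) (.node 33 .nil .nil)) (.node 60 (.node 60 (.node 60 .nil .nil) .nil) (.node 60 .nil .nil))) (.node 60 (.node 18 (.node 60 (.node 60 .nil .nil) .nil) (.node 60 .nil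 .nil)) (.node 60 (.node 31 .nil .nil) (.node 60 .nil .nil)))) (.node 60 (.node 60 (.node 60 (.node 60 (.node 43 .nil .nil) .nil) (.node 60 .nil .nil)) (.node 60 (.node 60 (.node 50 .nil .nil) .nil) (.node 36 .nil .nil))) (.node 60 (.node 60 (.node 60 (.node 60 .nil .nil) .nil) (.node 60 .nil .nil)) (.node 60 (.node 60 .nil .nil) (.node 60 .nil .nil)))))) (.node 60 (.node 60 (.node 7 (.node 60 (.node 60 (.node 60 (.node 60 .nil .nil) .nil) (.node 60 .nil .nil)) (.node 60 (.node 60 (.node 47 .nil .nil) .nil) (.node 60 .nil .nil))) (.node 60 (.node 60 (.node 60 (.node 44 .nil .nil) .nil) (.node 60 .nil .nil)) (.node 60 (.node 60 .nil .nil) (.node 60 .nil .nil)))) (.node 60 (.node 60 (.node 60 (.node 60 (.node 60 .nil .nil) .nil) (.node 60 .nil .nil)) (.node 21 (.node 60 (.node 49 .nil .nil) .nil) (.node 60 .nil .nil))) (.node 60 (.node 60 (.node 60 (.node 45 .nil .nil) .nil) (.node 60 .nil .nil)) (.node 60 (.node 60 .nil .nil) (.node 60 .nil .nil))))) (.node 5 (.node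 60 (.node 60 (.node 60 (.node 60 (.node 41 .nil .nil) .nil) (.node 60 .nil .nil)) (.node 60 (.node 60 (.node 48 .nil .nil) .nil) (.node 60 .nil .nil))) (.node 60 (.node 60 (.node 60 (.node 60 .nil .nil) .nil) (.node 60 .nil .nil)) (.node 60 (.node 60 .nil .nil) (.node 60 .nil .nil)))) (.node 60 (.node 60 (.node 60 (.node 60 (.node 60 .nil .nil) .nil) (.node 60 .nil .nil)) (.node 60 (.node 60 .nil .nil) (.node 37 .nil .nil))) (.node 60 (.node 60 (.node 60 (.node 60 .nil .nil) .nil) (.node 60 .nil .nil)) (.node 60 (.node 60 .nil .nil) (.node 60 .nil .nil))))))) (.node 3 (.node 60 (.node 4 (.node 60 (.node 60 (.node 60 (.node 60 (.node 60 .nil .nil) .nil) (.node 60 .nil .nil)) (.node 60 (.node 60 (.node 60 .nil .nil) .nil) (.node 60 .nil .nil))) (.node 60 (.node 60 (.node 60 (.node 60 .nil .nil) .nil) (.node 60 .nil .nil)) (.node 60 (.node 60 .nil .nil) (.node 60 .nil .nil)))) (.node 60 (.node 60 (.node 60 (.node 60 (.node 60 .nil .nil) .nil) (.node 60 .nil .nil))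 (.node 60 (.node 28 (.node 60 .nil .nil) .nil) (.node 35 .nil .nil))) (.node 60 (.node 19 (.node 60 (.node 60 .nil .nil) .nil) (.node 60 .nil .nil)) (.node 60 (.node 60 .nil .nil) (.node 60 .nil .nil))))) (.node 60 (.node 60 (.node 10 (.node 60 (.node 60 (.node 60 .nil .nil) .nil) (.node 60 .nil .nil)) (.node 60 (.node 60 (.node 60 .nil .nil) .nil) (.node 60 .nil .nil))) (.node 60 (.node 60 (.node 60 (.node 60 .nil .nil) .nil) (.node 60 .nil .nil)) (.node 60 (.node 60 .nil .nil) (.node 60 .nil .nil)))) (.node 60 (.node 12 (.node 60 (.node 60 (.node 60 .nil .nil) .nil) (.node 60 .nil .nil)) (.node 60 (.node 29 .nil .nil) (.node 60 .nil .nil))) (.node 60 (.node 60 (.node 60 (.node 60 .nil .nil) .nil) (.node 60 .nil .nil)) (.node 24 (.node 60 .nil .nil) (.node 60 .nil .nil)))))) (.node 60 (.node 60 (.node 60 (.node 60 (.node 60 (.node 60 (.node 40 .nil .nil) .nil) (.node 32 .nil .nil)) (.node 60 (.node 60 (.node 60 .nil .nil) .nil) (.node 34 .nil .nil))) (.node 60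 (.node 60 (.node 60 (.node 60 .nil .nil) .nil) (.node 60 .nil .nil)) (.node 60 (.node 60 .nil .nil) (.node 60 .nil .nil)))) (.node 9 (.node 11 (.node 60 (.node 60 (.node 60 .nil .nil) .nil) (.node 60 .nil .nil)) (.node 22 (.node 60 (.node 60 .nil .nil) .nil) (.node 60 .nil .nil))) (.node 60 (.node 60 (.node 60 (.node 60 .nil .nil) .nil) (.node 60 .nil .nil)) (.node 60 (.node 60 .nil .nil) (.node 60 .nil .nil))))) (.node 60 (.node 8 (.node 60 (.node 15 (.node 60 (.node 60 .nil .nil) .nil) (.node 60 .nil .nil)) (.node 60 (.node 27 (.node 60 .nil .nil) .nil) (.node 60 .nil .nil))) (.node 60 (.node 60 (.node 25 (.node 60 .nil .nil) .nil) (.node 60 .nil .nil)) (.node 60 (.node 60 .nil .nil) (.node 60 .nil .nil)))) (.node 60 (.node 13 (.node 16 (.node 60 (.node 60 .nil .nil) .nil) (.node 60 .nil .nil)) (.node 60 (.node 60 .nil .nil) (.node 60 .nil .nil))) (.node 60 (.node 60 (.node 60 (.node 46 .nil .nil) .nil) (.node 60 .nil .nil)) (.node 60 (.node 60 .nil .nil) (.node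 60 .nil .nil))))))))

/-- Data. -/
def reps : List (List ℕ) := [[],
[9,16,16,6,15,18,13,11,15,15,15,18],
[18,7,11,6,14,13,10,14,18,17,15],
[16,12,7,14,18,11,12,15,15,18,14],
[8,10,9,15,11,12,10,15,18,16,16,15],
[8,12,15,8,10,17,13,16,16,14],
[18,12,10,6,16,12,17,12,10,17,14,14],
[13,10,10,8,15,11,17,12,16,14,18],
[9,9,16,6,16,12,11,15,18,16,15],
[13,6,6,6,12,10,12,18,14,14,14],
[13,7,8,11,12,14,13,14,16,18,16,14],
[16,12,8,12,17,13,11,18,15,15,15],
[11,7,12,6,15,11,17,11,15,18,15,17],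
[9,7,13,6,12,10,12,12,17,17,15,15],
[12,9,13,6,6,14,10,18,14,14,18],
[7,13,8,16,12,10,14,18,14],
[7,11,9,6,14,14,12,18,15,15,18],
[13,17,11,6,10,10,12,10,14,14,18],
[9,11,12,7,12,16,14,14,10,17,15,18,14],
[6,16,12,6,15,11,16,10,17,18,16],
[6,11,9,18,13,16,13,10,17,15,18,14,14],
[13,7,11,6,18,11,18,11,18,16,16,14],
[6,6,6,16,15,13,11,17,14,18,16,14],
[15,7,11,6,13,16,12,10,15,18,15],
[8,17,18,6,18,17,17,13,10,17,15,15,18],
[12,17,7,14,13,11,14,18,14],
[18,15,6,6,16,13,10,13,10,14,18,17,17,14],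
[16,16,7,16,14,12,12,15,18,17,14],
[12,9,9,6,12,16,10,18,17,17,14],
[14,18,10,6,15,13,10,12,10,15,18,16,16,15],
[8,11,12,6,16,18,15,11,14,18,16,16],
[12,11,9,13,11,12,10,15,15,18,15],
[6,11,12,7,15,13,15,10,18,17,17,14],
[8,18,8,6,16,13,13,10,15],
[8,7,10,6,12,11,18,10,18,15],
[14,12,8,6,11,11,14,18],
[7,17,12,6,18,15,13,14,18,17,15],
[13,14,13,9,16,13,14,13,10,17,15,18],
[11,11,6,6,17,11,17,15,15],
[6,6,8,7,18,14,13,15,15,18,14],
[6,6,6,9,6,14,14,18,13,10,15,18,16,16,14],
[14,14,6,6,13,16,16,10,17,18],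
[7,7,18,7,12,12,18,11,18,14,14,14],
[16,14,7,7,12,12,18,12,17,15,15,18,16],
[18,9,9,12,11,18,12,18,15,15,18,16],
[16,9,9,6,14,14,18,13,10,17,14,18,15],
[14,7,8,14,12,15,12,16,15,15],
[12,6,15,7,13,18,10,13,10,18,17,17,14],
[6,14,9,14,13,13,10,17,17],
[15,9,12,11,12,10,16,18,16,16]]

/-- Data. -/
def conjs : List (ℕ × List ℕ) := [(2, []),
(0, [8,12,15,8,17,12,12,12,16,14,18,16,14]),
(0, [2,2,5,3,3,12,7,16,15,12,12,14,14,18]),
(0, [2,2,5,3,3,12,17,8,15,12,10,14,18,16,14]),
(0, [11,11,6,6,12,11,15,10,16,15]),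
(0, []),
(0, [6,11,12,7,12,14,10,10,10,15,18,15,15,15]),
(1, [8,11,12,6,16,10,17,11,18,15,15,18]),
(1, [2,2,5,3,3,9,11,6,18,17,14,11,15,18,14,16,14]),
(1, [6,11,12,7,12,17,12,15,18,16]),
(0, [2,2,5,3,3,6,12,8,17,13,11,12,17,15,15,18,16]),
(1, [11,9,7,12,18,11,17,18,17]),
(0, [2,2,5,3,3,8,11,8,14,18,12,11,14,14,14,18]),
(1, [2,2,5,3,3,11,18,6,17,11,14,11,14,16,18,14]),
(1, [2,2,5,3,3,14,7,8,14,10,15,10,18,15,17,18]),
(0, [2,2,5,3,3,8,15,17,6,12,11,15,11,15,18,16,16,14]),
(1, [2,2,5,3,3,8,7,10,6,18,17,14,11,18,15,15,18,16]),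
(1, [2,2,5,3,3,14,14,9,6,13,15,12,10,17,18,14,14]),
(0, [2,2,5,3,3,9,9,16,6,18,12,14,18,14,16]),
(1, [9,16,12,7,11,17,10,10,16,14,18,16]),
(0, [12,12,12,18,16,14,14]),
(1, [16,12,7,17,14,11,12,16,15,18]),
(1, [2,2,5,3,3,14,7,8,13,18,15,11,14,18,17]),
(1, [12,9,9,6,15,18,17,10,17,15,18,15]),
(0, [8,11,12,6,11,18,12,18,17,17,15,15])]

/-- Data. -/
def iA : ℕ := 7

/-- Data. -/
def sol : List (List ℕ) := [[2,2,5,3,3,14,7,8,14,10,15,10,18,15,17,18], [13,7,8,16,12,15,10,10,15,15], [12,17,7,16,15,12,12,15,18,14,14]]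

/-- Data. -/
def fxA : List ℕ := [40,575,584]

end Cfsg.Agent.SuzFacts.Data
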