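import Cfsg.Agent.StemCert.Defs

/-! The centraliser and a normalising word at the prime seven. -/

set_option autoImplicit false
set_option maxRecDepth 100000
set_option maxHeartbeats 0
set_option linter.all false

namespace Cfsg.Agent.SuzFacts.Data

open Cfsg.Agent.StemCert

/-- Data. -/
def normWord : List ℕ := [35,35,39,41,35,41,39,41,39,40,39,40,39,41]

/-- Data. -/
def altWords : List (List ℕ) := [[],
[],
[0,33,39,33,0,36,36,1,34,1,41,38,38,35,38,40,39,41],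
[0,38,0,37,0,35,37,37,34,1,39,35,39,35,39,41,39,40,39,40,39,40,39],
[0,38,0,37,0,34,41,36,37,1,35,35,35,37,35,40,39,41],
[],
[40,36,37,1,36,39,36,37,35,39,40,39,41,39,40,39,40,39],
[0,40,0,33,0,38,39,35,33,39,41,37,35,40,39,41,39,40,39],
[38,38,1,1,35,35,35,39,36,41,39,41,39,41],
[0,40,0,33,0,38,38,33,1,36,38,38,40,39,40,39,40,39,40,39],
[],
[0,33,39,33,0,33,41,1,1,38,38,39,37,37,40,39,40,39,40,39,40,39,40],
[0,33,39,33,0,1,37,37,1,1,36,38,36,37,36,40,39,40,39,40,39,40,39,40,39],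
[0,38,0,37,0,33,38,33,1,1,41,38,35,35,40,39,40,39,41,39,41],
[0,40,0,33,0,35,34,37,33,37,36,39,35,35,39,40,39,40,39,40,39,41],
[]]

/-- Data. -/
noncomputable def sevenKinds_0 : Arr (ℕ) := (.node 2 (.node 18 (.node 0 (.node 66 (.node 0 (.node 0 (.node 0 (.node 0 (.node 0 (.node 0 (.node 0 .nil .nil) .nil) (.node 0 .nil .nil)) (.node 0 (.node 0 .nil .nil) (.node 0 .nil .nil))) (.node 55 (.node 0 (.node 0 (.node 0 .nil .nil) .nil) (.node 0 .nil .nil)) (.node 0 (.node 0 .nil .nil) (.node 0 .nil .nil)))) (.node 0 (.node 0 (.node 0 (.node 0 (.node 0 .nil .nil) .nil) (.node 0 .nil .nil)) (.node 0 (.node 0 .nil .nil) (.node 0 .nil .nil))) (.node 0 (.node 0 (.node 0 .nil .nil) (.node 0 .nil .nil)) (.node 0 (.node 0 .nil .nil) (.node 0 .nil .nil))))) (.node 0 (.node 0 (.node 0 (.node 0 (.node 0 (.node 0 .nil .nil) .nil) (.node 0 .nil .nil)) (.node 0 (.node 0 .nil .nil) (.node 0 .nil .nil))) (.node 0 (.node 0 (.node 0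 .nil .nil) (.node 0 .nil .nil)) (.node 0 (.node 0 .nil .nil) (.node 0 .nil .nil)))) (.node 0 (.node 0 (.node 0 (.node 77 (.node 0 .nil .nil) .nil) (.node 0 .nil .nil)) (.node 0 (.node 0 .nil .nil) (.node 0 .nil .nil))) (.node 0 (.node 0 (.node 0 .nil .nil) (.node 0 .nil .nil)) (.node 0 (.node 0 .nil .nil) (.node 0 .nil .nil)))))) (.node 0 (.node 0 (.node 0 (.node 0 (.node 0 (.node 0 (.node 0 .nil .nil) .nil) (.node 0 .nil .nil)) (.node 0 (.node 0 .nil .nil) (.node 0 .nil .nil))) (.node 0 (.node 0 (.node 0 .nil .nil) (.node 0 .nil .nil)) (.node 84 (.node 0 .nil .nil) (.node 0 .nil .nil)))) (.node 0 (.node 0 (.node 0 (.node 29 (.node 0 .nil .nil) .nil) (.node 0 .nil .nil)) (.node 0 (.node 0 .nil .nil) (.node 0 .nil .nil))) (.node 9 (.node 0 (.node 0 .nil .nil) (.node 0 .nil .nil)) (.node 0 (.node 0 .nil .nil) (.node 0 .nil .nil))))) (.node 0 (.node 0 (.node 0 (.node 37 (.node 0 (.node 0 .nil .nil) .nil) (.node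 0 .nil .nil)) (.node 0 (.node 0 .nil .nil) (.node 0 .nil .nil))) (.node 0 (.node 0 (.node 0 .nil .nil) (.node 0 .nil .nil)) (.node 0 (.node 0 .nil .nil) (.node 0 .nil .nil)))) (.node 0 (.node 23 (.node 0 (.node 0 (.node 0 .nil .nil) .nil) (.node 106 .nil .nil)) (.node 0 (.node 0 .nil .nil) (.node 0 .nil .nil))) (.node 0 (.node 0 (.node 0 .nil .nil) (.node 0 .nil .nil)) (.node 0 (.node 0 .nil .nil) (.node 0 .nil .nil))))))) (.node 0 (.node 0 (.node 0 (.node 41 (.node 0 (.node 0 (.node 0 (.node 0 .nil .nil) .nil) (.node 0 .nil .nil)) (.node 46 (.node 0 .nil .nil) (.node 0 .nil .nil))) (.node 0 (.node 0 (.node 0 (.node 0 .nil .nil) .nil) (.node 0 .nil .nil)) (.node 30 (.node 0 .nil .nil) (.node 0 .nil .nil)))) (.node 0 (.node 0 (.node 53 (.node 13 (.node 0 .nil .nil) .nil) (.node 0 .nil .nil)) (.node 0 (.node 0 .nil .nil) (.node 0 .nil .nil))) (.node 0 (.node 0 (.node 0 .nil .nil) (.node 0 .nil .nil)) (.node 0 (.node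 108 .nil .nil) (.node 0 .nil .nil))))) (.node 0 (.node 0 (.node 0 (.node 85 (.node 0 (.node 0 .nil .nil) .nil) (.node 0 .nil .nil)) (.node 0 (.node 0 .nil .nil) (.node 0 .nil .nil))) (.node 0 (.node 0 (.node 0 .nil .nil) (.node 0 .nil .nil)) (.node 0 (.node 0 .nil .nil) (.node 0 .nil .nil)))) (.node 0 (.node 0 (.node 0 (.node 0 (.node 0 .nil .nil) .nil) (.node 10 .nil .nil)) (.node 0 (.node 0 .nil .nil) (.node 0 .nil .nil))) (.node 0 (.node 0 (.node 0 .nil .nil) (.node 0 .nil .nil)) (.node 0 (.node 0 .nil .nil) (.node 0 .nil .nil)))))) (.node 50 (.node 0 (.node 0 (.node 0 (.node 0 (.node 0 (.node 0 .nil .nil) .nil) (.node 0 .nil .nil)) (.node 0 (.node 0 .nil .nil) (.node 0 .nil .nil))) (.node 0 (.node 0 (.node 0 .nil .nil) (.node 0 .nil .nil)) (.node 0 (.node 0 .nil .nil) (.node 0 .nil .nil)))) (.node 73 (.node 0 (.node 0 (.node 109 (.node 0 .nil .nil) .nil) (.node 0 .nil .nil)) (.node 0 (.node 0 .nil .nil) (.node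 0 .nil .nil))) (.node 0 (.node 0 (.node 0 .nil .nil) (.node 0 .nil .nil)) (.node 0 (.node 0 .nil .nil) (.node 0 .nil .nil))))) (.node 0 (.node 0 (.node 0 (.node 0 (.node 0 (.node 0 .nil .nil) .nil) (.node 0 .nil .nil)) (.node 0 (.node 0 .nil .nil) (.node 0 .nil .nil))) (.node 0 (.node 0 (.node 0 .nil .nil) (.node 0 .nil .nil)) (.node 0 (.node 0 .nil .nil) (.node 0 .nil .nil)))) (.node 0 (.node 0 (.node 0 (.node 0 (.node 0 .nil .nil) .nil) (.node 74 .nil .nil)) (.node 0 (.node 0 .nil .nil) (.node 0 .nil .nil))) (.node 0 (.node 0 (.node 0 .nil .nil) (.node 0 .nil .nil)) (.node 0 (.node 0 .nil .nil) (.node 0 .nil .nil)))))))) (.node 98 (.node 34 (.node 0 (.node 0 (.node 0 (.node 0 (.node 0 (.node 94 (.node 0 .nil .nil) .nil) (.node 0 .nil .nil)) (.node 20 (.node 0 .nil .nil) (.node 0 .nil .nil))) (.node 0 (.node 0 (.node 0 (.node 0 .nil .nil) .nil) (.node 72 .nil .nil)) (.node 0 (.node 0 .nil .nil) (.node 0 .nil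 .nil)))) (.node 0 (.node 0 (.node 0 (.node 0 (.node 0 .nil .nil) .nil) (.node 0 .nil .nil)) (.node 0 (.node 0 .nil .nil) (.node 0 .nil .nil))) (.node 0 (.node 0 (.node 0 .nil .nil) (.node 0 .nil .nil)) (.node 0 (.node 76 .nil .nil) (.node 0 .nil .nil))))) (.node 0 (.node 0 (.node 0 (.node 5 (.node 0 (.node 0 .nil .nil) .nil) (.node 0 .nil .nil)) (.node 0 (.node 0 .nil .nil) (.node 0 .nil .nil))) (.node 0 (.node 0 (.node 0 .nil .nil) (.node 0 .nil .nil)) (.node 0 (.node 0 .nil .nil) (.node 0 .nil .nil)))) (.node 0 (.node 0 (.node 0 (.node 45 (.node 0 .nil .nil) .nil) (.node 0 .nil .nil)) (.node 0 (.node 0 .nil .nil) (.node 0 .nil .nil))) (.node 0 (.node 0 (.node 0 .nil .nil) (.node 0 .nil .nil)) (.node 0 (.node 0 .nil .nil) (.node 0 .nil .nil)))))) (.node 0 (.node 0 (.node 0 (.node 0 (.node 0 (.node 0 (.node 0 .nil .nil) .nil) (.node 0 .nil .nil)) (.node 52 (.node 0 .nil .nil) (.node 0 .nil .nil))) (.node 0 (.node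 0 (.node 0 .nil .nil) (.node 0 .nil .nil)) (.node 62 (.node 0 .nil .nil) (.node 0 .nil .nil)))) (.node 0 (.node 0 (.node 0 (.node 0 (.node 15 .nil .nil) .nil) (.node 0 .nil .nil)) (.node 0 (.node 0 .nil .nil) (.node 0 .nil .nil))) (.node 0 (.node 0 (.node 0 .nil .nil) (.node 0 .nil .nil)) (.node 0 (.node 0 .nil .nil) (.node 0 .nil .nil))))) (.node 0 (.node 0 (.node 0 (.node 0 (.node 0 (.node 0 .nil .nil) .nil) (.node 0 .nil .nil)) (.node 0 (.node 0 .nil .nil) (.node 0 .nil .nil))) (.node 0 (.node 0 (.node 0 .nil .nil) (.node 56 .nil .nil)) (.node 0 (.node 0 .nil .nil) (.node 0 .nil .nil)))) (.node 0 (.node 0 (.node 0 (.node 0 (.node 0 .nil .nil) .nil) (.node 88 .nil .nil)) (.node 0 (.node 0 .nil .nil) (.node 31 .nil .nil))) (.node 0 (.node 0 (.node 0 .nil .nil) (.node 0 .nil .nil)) (.node 0 (.node 0 .nil .nil) (.node 95 .nil .nil))))))) (.node 0 (.node 0 (.node 0 (.node 0 (.node 0 (.node 0 (.node 0 (.node 0 .nil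 .nil) .nil) (.node 0 .nil .nil)) (.node 0 (.node 0 .nil .nil) (.node 47 .nil .nil))) (.node 0 (.node 0 (.node 0 .nil .nil) (.node 0 .nil .nil)) (.node 0 (.node 0 .nil .nil) (.node 0 .nil .nil)))) (.node 0 (.node 0 (.node 0 (.node 83 (.node 0 .nil .nil) .nil) (.node 0 .nil .nil)) (.node 0 (.node 0 .nil .nil) (.node 0 .nil .nil))) (.node 0 (.node 0 (.node 0 .nil .nil) (.node 0 .nil .nil)) (.node 0 (.node 0 .nil .nil) (.node 0 .nil .nil))))) (.node 0 (.node 0 (.node 0 (.node 69 (.node 0 (.node 0 .nil .nil) .nil) (.node 0 .nil .nil)) (.node 0 (.node 0 .nil .nil) (.node 0 .nil .nil))) (.node 7 (.node 36 (.node 0 .nil .nil) (.node 0 .nil .nil)) (.node 0 (.node 0 .nil .nil) (.node 0 .nil .nil)))) (.node 0 (.node 0 (.node 0 (.node 0 (.node 0 .nil .nil) .nil) (.node 26 .nil .nil)) (.node 0 (.node 0 .nil .nil) (.node 0 .nil .nil))) (.node 0 (.node 0 (.node 0 .nil .nil) (.node 0 .nil .nil)) (.node 0 (.node 0 .nil .nil)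 (.node 0 .nil .nil)))))) (.node 0 (.node 0 (.node 0 (.node 0 (.node 0 (.node 0 (.node 0 .nil .nil) .nil) (.node 0 .nil .nil)) (.node 0 (.node 0 .nil .nil) (.node 0 .nil .nil))) (.node 0 (.node 0 (.node 61 .nil .nil) (.node 58 .nil .nil)) (.node 0 (.node 0 .nil .nil) (.node 0 .nil .nil)))) (.node 0 (.node 0 (.node 0 (.node 35 (.node 0 .nil .nil) .nil) (.node 0 .nil .nil)) (.node 0 (.node 0 .nil .nil) (.node 0 .nil .nil))) (.node 0 (.node 0 (.node 0 .nil .nil) (.node 0 .nil .nil)) (.node 0 (.node 0 .nil .nil) (.node 0 .nil .nil))))) (.node 0 (.node 0 (.node 0 (.node 0 (.node 0 (.node 0 .nil .nil) .nil) (.node 0 .nil .nil)) (.node 0 (.node 0 .nil .nil) (.node 0 .nil .nil))) (.node 0 (.node 0 (.node 0 .nil .nil) (.node 0 .nil .nil)) (.node 0 (.node 0 .nil .nil) (.node 0 .nil .nil)))) (.node 0 (.node 89 (.node 0 (.node 0 (.node 0 .nil .nil) .nil) (.node 42 .nil .nil)) (.node 0 (.node 0 .nil .nil) (.node 0 .nil .nil)))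 (.node 0 (.node 0 (.node 0 .nil .nil) (.node 0 .nil .nil)) (.node 0 (.node 0 .nil .nil) (.node 0 .nil .nil))))))))) (.node 82 (.node 0 (.node 0 (.node 0 (.node 0 (.node 0 (.node 0 (.node 0 (.node 0 (.node 0 .nil .nil) .nil) (.node 0 .nil .nil)) (.node 0 (.node 0 .nil .nil) (.node 0 .nil .nil))) (.node 0 (.node 0 (.node 0 (.node 0 .nil .nil) .nil) (.node 0 .nil .nil)) (.node 0 (.node 0 .nil .nil) (.node 63 .nil .nil)))) (.node 0 (.node 0 (.node 0 (.node 0 (.node 0 .nil .nil) .nil) (.node 0 .nil .nil)) (.node 0 (.node 0 .nil .nil) (.node 0 .nil .nil))) (.node 0 (.node 0 (.node 0 .nil .nil) (.node 0 .nil .nil)) (.node 0 (.node 28 .nil .nil) (.node 0 .nil .nil))))) (.node 0 (.node 0 (.node 0 (.node 0 (.node 0 (.node 0 .nil .nil) .nil) (.node 0 .nil .nil)) (.node 0 (.node 0 .nil .nil) (.node 0 .nil .nil))) (.node 0 (.node 0 (.node 0 .nil .nil) (.node 0 .nil .nil)) (.node 0 (.node 0 .nil .nil) (.node 0 .nil .nil))))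 (.node 57 (.node 0 (.node 0 (.node 0 (.node 0 .nil .nil) .nil) (.node 0 .nil .nil)) (.node 0 (.node 0 .nil .nil) (.node 0 .nil .nil))) (.node 0 (.node 0 (.node 0 .nil .nil) (.node 0 .nil .nil)) (.node 0 (.node 0 .nil .nil) (.node 0 .nil .nil)))))) (.node 0 (.node 0 (.node 0 (.node 0 (.node 0 (.node 0 (.node 0 .nil .nil) .nil) (.node 0 .nil .nil)) (.node 100 (.node 0 .nil .nil) (.node 0 .nil .nil))) (.node 0 (.node 0 (.node 0 .nil .nil) (.node 0 .nil .nil)) (.node 0 (.node 0 .nil .nil) (.node 0 .nil .nil)))) (.node 0 (.node 0 (.node 0 (.node 93 (.node 0 .nil .nil) .nil) (.node 0 .nil .nil)) (.node 0 (.node 44 .nil .nil) (.node 0 .nil .nil))) (.node 0 (.node 0 (.node 0 .nil .nil) (.node 0 .nil .nil)) (.node 0 (.node 0 .nil .nil) (.node 0 .nil .nil))))) (.node 0 (.node 0 (.node 0 (.node 0 (.node 0 (.node 0 .nil .nil) .nil) (.node 0 .nil .nil)) (.node 0 (.node 0 .nil .nil) (.node 0 .nil .nil))) (.node 0 (.node 0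 (.node 0 .nil .nil) (.node 0 .nil .nil)) (.node 14 (.node 0 .nil .nil) (.node 0 .nil .nil)))) (.node 0 (.node 71 (.node 0 (.node 0 (.node 0 .nil .nil) .nil) (.node 24 .nil .nil)) (.node 0 (.node 0 .nil .nil) (.node 0 .nil .nil))) (.node 0 (.node 0 (.node 0 .nil .nil) (.node 0 .nil .nil)) (.node 4 (.node 0 .nil .nil) (.node 0 .nil .nil))))))) (.node 0 (.node 0 (.node 0 (.node 0 (.node 0 (.node 0 (.node 0 (.node 0 .nil .nil) .nil) (.node 0 .nil .nil)) (.node 0 (.node 0 .nil .nil) (.node 0 .nil .nil))) (.node 0 (.node 0 (.node 0 .nil .nil) (.node 0 .nil .nil)) (.node 78 (.node 0 .nil .nil) (.node 0 .nil .nil)))) (.node 0 (.node 0 (.node 0 (.node 19 (.node 0 .nil .nil) .nil) (.node 0 .nil .nil)) (.node 0 (.node 0 .nil .nil) (.node 0 .nil .nil))) (.node 0 (.node 0 (.node 0 .nil .nil) (.node 0 .nil .nil)) (.node 0 (.node 60 .nil .nil) (.node 0 .nil .nil))))) (.node 0 (.node 0 (.node 0 (.node 101 (.node 0 (.node 0 .nil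 .nil) .nil) (.node 0 .nil .nil)) (.node 0 (.node 0 .nil .nil) (.node 0 .nil .nil))) (.node 0 (.node 0 (.node 0 .nil .nil) (.node 0 .nil .nil)) (.node 0 (.node 0 .nil .nil) (.node 0 .nil .nil)))) (.node 0 (.node 0 (.node 0 (.node 0 (.node 0 .nil .nil) .nil) (.node 8 .nil .nil)) (.node 0 (.node 0 .nil .nil) (.node 0 .nil .nil))) (.node 0 (.node 0 (.node 0 .nil .nil) (.node 0 .nil .nil)) (.node 0 (.node 0 .nil .nil) (.node 0 .nil .nil)))))) (.node 0 (.node 0 (.node 0 (.node 0 (.node 0 (.node 0 (.node 0 .nil .nil) .nil) (.node 0 .nil .nil)) (.node 0 (.node 0 .nil .nil) (.node 0 .nil .nil))) (.node 0 (.node 0 (.node 0 .nil .nil) (.node 0 .nil .nil)) (.node 0 (.node 0 .nil .nil) (.node 0 .nil .nil)))) (.node 39 (.node 0 (.node 0 (.node 67 (.node 0 .nil .nil) .nil) (.node 0 .nil .nil)) (.node 0 (.node 0 .nil .nil) (.node 0 .nil .nil))) (.node 0 (.node 0 (.node 0 .nil .nil) (.node 0 .nil .nil)) (.node 0 (.node 0 .nil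 .nil) (.node 0 .nil .nil))))) (.node 0 (.node 0 (.node 0 (.node 0 (.node 0 (.node 0 .nil .nil) .nil) (.node 0 .nil .nil)) (.node 0 (.node 0 .nil .nil) (.node 0 .nil .nil))) (.node 0 (.node 0 (.node 0 .nil .nil) (.node 0 .nil .nil)) (.node 0 (.node 0 .nil .nil) (.node 0 .nil .nil)))) (.node 0 (.node 103 (.node 0 (.node 0 (.node 0 .nil .nil) .nil) (.node 0 .nil .nil)) (.node 0 (.node 0 .nil .nil) (.node 0 .nil .nil))) (.node 0 (.node 0 (.node 0 .nil .nil) (.node 0 .nil .nil)) (.node 0 (.node 0 .nil .nil) (.node 0 .nil .nil)))))))) (.node 0 (.node 0 (.node 0 (.node 0 (.node 0 (.node 0 (.node 0 (.node 0 (.node 0 .nil .nil) .nil) (.node 0 .nil .nil)) (.node 68 (.node 0 .nil .nil) (.node 0 .nil .nil))) (.node 0 (.node 0 (.node 0 (.node 0 .nil .nil) .nil) (.node 40 .nil .nil)) (.node 0 (.node 0 .nil .nil) (.node 0 .nil .nil)))) (.node 0 (.node 0 (.node 0 (.node 3 (.node 0 .nil .nil) .nil) (.node 0 .nil .nil)) (.node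 0 (.node 0 .nil .nil) (.node 0 .nil .nil))) (.node 0 (.node 0 (.node 0 .nil .nil) (.node 0 .nil .nil)) (.node 0 (.node 0 .nil .nil) (.node 0 .nil .nil))))) (.node 0 (.node 0 (.node 0 (.node 21 (.node 0 (.node 0 .nil .nil) .nil) (.node 0 .nil .nil)) (.node 0 (.node 0 .nil .nil) (.node 0 .nil .nil))) (.node 0 (.node 0 (.node 0 .nil .nil) (.node 0 .nil .nil)) (.node 0 (.node 0 .nil .nil) (.node 0 .nil .nil)))) (.node 0 (.node 0 (.node 0 (.node 0 (.node 0 .nil .nil) .nil) (.node 0 .nil .nil)) (.node 0 (.node 0 .nil .nil) (.node 0 .nil .nil))) (.node 0 (.node 0 (.node 0 .nil .nil) (.node 0 .nil .nil)) (.node 0 (.node 0 .nil .nil) (.node 0 .nil .nil)))))) (.node 0 (.node 0 (.node 0 (.node 0 (.node 0 (.node 0 (.node 0 .nil .nil) .nil) (.node 0 .nil .nil)) (.node 0 (.node 0 .nil .nil) (.node 0 .nil .nil))) (.node 0 (.node 0 (.node 0 .nil .nil) (.node 0 .nil .nil)) (.node 0 (.node 0 .nil .nil) (.node 0 .nil .nil)))) (.node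 25 (.node 0 (.node 0 (.node 0 (.node 0 .nil .nil) .nil) (.node 0 .nil .nil)) (.node 0 (.node 0 .nil .nil) (.node 0 .nil .nil))) (.node 0 (.node 0 (.node 0 .nil .nil) (.node 0 .nil .nil)) (.node 0 (.node 0 .nil .nil) (.node 0 .nil .nil))))) (.node 0 (.node 0 (.node 0 (.node 0 (.node 0 (.node 0 .nil .nil) .nil) (.node 92 .nil .nil)) (.node 0 (.node 0 .nil .nil) (.node 0 .nil .nil))) (.node 0 (.node 0 (.node 0 .nil .nil) (.node 0 .nil .nil)) (.node 0 (.node 0 .nil .nil) (.node 0 .nil .nil)))) (.node 0 (.node 0 (.node 0 (.node 0 (.node 0 .nil .nil) .nil) (.node 104 .nil .nil)) (.node 0 (.node 0 .nil .nil) (.node 79 .nil .nil))) (.node 0 (.node 0 (.node 0 .nil .nil) (.node 0 .nil .nil)) (.node 0 (.node 0 .nil .nil) (.node 0 .nil .nil))))))) (.node 0 (.node 0 (.node 0 (.node 0 (.node 0 (.node 0 (.node 0 (.node 0 .nil .nil) .nil) (.node 0 .nil .nil)) (.node 0 (.node 0 .nil .nil) (.node 0 .nil .nil))) (.node 0 (.node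 0 (.node 0 .nil .nil) (.node 0 .nil .nil)) (.node 110 (.node 0 .nil .nil) (.node 0 .nil .nil)))) (.node 0 (.node 0 (.node 0 (.node 99 (.node 0 .nil .nil) .nil) (.node 0 .nil .nil)) (.node 0 (.node 0 .nil .nil) (.node 0 .nil .nil))) (.node 0 (.node 0 (.node 0 .nil .nil) (.node 0 .nil .nil)) (.node 0 (.node 0 .nil .nil) (.node 0 .nil .nil))))) (.node 0 (.node 0 (.node 0 (.node 0 (.node 0 (.node 0 .nil .nil) .nil) (.node 0 .nil .nil)) (.node 0 (.node 0 .nil .nil) (.node 0 .nil .nil))) (.node 0 (.node 0 (.node 0 .nil .nil) (.node 0 .nil .nil)) (.node 0 (.node 0 .nil .nil) (.node 0 .nil .nil)))) (.node 0 (.node 0 (.node 0 (.node 51 (.node 0 .nil .nil) .nil) (.node 90 .nil .nil)) (.node 0 (.node 0 .nil .nil) (.node 0 .nil .nil))) (.node 0 (.node 0 (.node 0 .nil .nil) (.node 0 .nil .nil)) (.node 0 (.node 12 .nil .nil) (.node 0 .nil .nil)))))) (.node 0 (.node 0 (.node 0 (.node 0 (.node 0 (.node 0 (.node 0 .nil .nil)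 .nil) (.node 0 .nil .nil)) (.node 0 (.node 0 .nil .nil) (.node 0 .nil .nil))) (.node 0 (.node 0 (.node 0 .nil .nil) (.node 0 .nil .nil)) (.node 0 (.node 0 .nil .nil) (.node 0 .nil .nil)))) (.node 105 (.node 0 (.node 0 (.node 0 (.node 0 .nil .nil) .nil) (.node 0 .nil .nil)) (.node 0 (.node 0 .nil .nil) (.node 0 .nil .nil))) (.node 87 (.node 0 (.node 0 .nil .nil) (.node 0 .nil .nil)) (.node 0 (.node 0 .nil .nil) (.node 0 .nil .nil))))) (.node 0 (.node 0 (.node 0 (.node 0 (.node 0 (.node 0 .nil .nil) .nil) (.node 0 .nil .nil)) (.node 0 (.node 0 .nil .nil) (.node 0 .nil .nil))) (.node 0 (.node 0 (.node 0 .nil .nil) (.node 0 .nil .nil)) (.node 0 (.node 0 .nil .nil) (.node 0 .nil .nil)))) (.node 0 (.node 0 (.node 0 (.node 0 (.node 0 .nil .nil) .nil) (.node 0 .nil .nil)) (.node 0 (.node 0 .nil .nil) (.node 111 .nil .nil))) (.node 0 (.node 0 (.node 0 .nil .nil) (.node 0 .nil .nil)) (.node 0 (.node 0 .nil .nil) (.node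 0 .nil .nil))))))))))

/-- Data. -/
noncomputable def sevenKinds : Arr (ℕ) := sevenKinds_0

end Cfsg.Agent.SuzFacts.Data
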