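import Cfsg.Agent.StemCert.Perm
import Cfsg.Agent.OutTab.CentSift
import Cfsg.Agent.SuzFacts.SevenData
import Cfsg.Agent.SuzFacts.FiveCand
import Cfsg.Agent.SuzFacts.FiveCodes
import Cfsg.Agent.SuzFacts.FiveLevels
import Cfsg.Agent.SuzOut.Base
import Cfsg.Agent.SuzOut.Codes
import Cfsg.Agent.SuzOut.Cand

/-!
Words for the subgroups at the primes five and seven.
-/

set_option autoImplicit false

namespace Cfsg.Agent.SuzFacts

open Cfsg.Agent.Compute Cfsg.Agent.StemCert Cfsg.Agent.OutTab

/-- Two images determine an element of the alternating group of degree four. -/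
def altCode (σ : alternatingGroup (Fin 4)) : ℕ :=
  4 * ((σ : Equiv.Perm (Fin 4)) 0 : ℕ) + ((σ : Equiv.Perm (Fin 4)) 1 : ℕ)

/-- The word of an element of the alternating group. -/
def altWord (σ : alternatingGroup (Fin 4)) : List ℕ := Data.altWords.getD (altCode σ) []

/-- The word of an element of `C7 × A4`. -/
def sevenWord (i : ℕ) (σ : alternatingGroup (Fin 4)) : List ℕ :=
  List.replicate i SuzOut.Data.sLetter ++ altWord σ

/-- A listed element does not commute, or is in `C7 × A4`. -/
noncomputable def sevenKindB (i : ℕ) : Bool :=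
  forceN (Data.sevenKinds.get 0 i) fun c => forceL (SuzOut.Data.els.get [] i) fun u =>
    cond (Nat.beq c 0)
      (!(eqOn 11 SuzOut.Data.codes SuzOut.Data.mainBase (u ++ [SuzOut.Data.sLetter])
        (SuzOut.Data.sLetter :: u)))
      (Nat.blt (Nat.div (Nat.sub c 1) 16) 7 &&
        eqOn 11 SuzOut.Data.codes SuzOut.Data.mainBase u
          (List.replicate (Nat.div (Nat.sub c 1) 16) SuzOut.Data.sLetter ++
            Data.altWords.getD (Nat.mod (Nat.sub c 1) 16) []))

/-- Equality of two words in the letters at five. -/
noncomputable def eqFive (a b : List ℕ) : Bool := eqOn 11 Data.codes Data.base a b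

/-- The word of an element of the subgroup of order 25. -/
def pWord (j : ℕ) : List ℕ := List.replicate (j / 5) 0 ++ List.replicate (j % 5) 1

/-- A word takes the letter into the subgroup of order 25. -/
noncomputable def intoP (u : List ℕ) (s : ℕ) : Bool :=
  (List.range 25).any fun j => eqFive (u ++ [s]) (pWord j ++ u)

/-- A listed element of the centraliser does not normalise the subgroup, or is a representative. -/
noncomputable def fiveKindB (i : ℕ) : Bool :=
  forceN (Data.kinds.get 0 i) fun c => forceL (Data.els.get [] i) fun u =>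
    cond (Nat.beq c 60) (!(intoP u 1))
      (Nat.blt (Nat.sub c 1) 50 && eqFive u (Data.reps.getD (Nat.sub c 1) []))

/-- A representative centralises the first letter and normalises the subgroup. -/
noncomputable def repB (i : ℕ) : Bool :=
  forceL (Data.reps.getD i []) fun u =>
    allB (fun s => Nat.blt s 19) u && eqFive (u ++ [0]) (0 :: u) && intoP u 1

/-- A conjugating word from one of the two representatives. -/
noncomputable def conjB (i : ℕ) : Bool :=
  forceN (Data.conjs.getD i (2, [])).1 fun c => forceL (Data.conjs.getD i (2, [])).2 fun u =>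
    Nat.beq i 0 || (Nat.blt c 2 && allB (fun s => Nat.blt s 19) u &&
      eqFive (u ++ (if c = 0 then [0] else pWord Data.iA)) (pWord i ++ u) && intoP u 0 && intoP u 1)

/-- Two images determine a permutation of three points. -/
def permCode (σ : Equiv.Perm (Fin 3)) : ℕ := 3 * (σ 0 : ℕ) + (σ 1 : ℕ)

/-- The word of an element of `C4 × S3`. -/
def solWord (x : Multiplicative (ZMod 4) × Equiv.Perm (Fin 3)) : List ℕ :=
  let z := Data.sol.getD 0 []
  let r := Data.sol.getD 1 []
  let s := Data.sol.getD 2 []
  (List.replicate (ZMod.val (Multiplicative.toAdd x.1)) z).flatten ++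
    [[], [], r ++ r ++ s, s, [], r, r ++ r, r ++ s, []].getD (permCode x.2) []

end Cfsg.Agent.SuzFacts
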