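import Cfsg.Agent.SuzOut.Model
import Cfsg.Agent.SuzFacts.CheckFive
import Cfsg.Agent.SuzFacts.Cyclic

/-!
The subgroup of order 25 of the Suzuki group and the centraliser of an element in it.
-/

set_option autoImplicit false
set_option maxRecDepth 100000

namespace Cfsg.Agent.SuzFacts

open Cfsg Cfsg.Agent.Compute Cfsg.Agent.StemCert Cfsg.Agent.OutTab Subgroup

/-- The letters at five. -/
noncomputable def gen5 (s : ℕ) : Spor.Suz := evalW SuzOut.gen (Data.letters.getD s [])

theorem coded5 : Coded (w := 11) (k := 19) SuzOut.ι gen5 Data.codes :=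
  LeechModel.coded_of_wordsB SuzOut.coded five_words

theorem base5 : IsBase SuzOut.ι Data.base :=
  have := SuzOut.finite_suz
  isBase_of_card coded5 five_wf.1 five_wf.2.1 five_wf.2.2.2 five_distinct
    (five_wf.2.2.1.trans SuzOut.card_suz.symm)

theorem cent_checks5 : CentChecks 1782 11 19 Data.codes Data.ivs Data.base Data.levels Data.masks
    0 850 5 [0, 1, 2] Data.fx Data.els 300 Data.candTab where
  slk := by norm_num
  pts_eq := by decide +kernel
  ptlt := by refine ⟨?_, ?_⟩ <;> norm_num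
  fixed := by decide +kernel
  fix := five_fix
  mask := five_mask
  cand := by
    rw [five_conjs.2.2.2.2.1]
    refine of_ranges (len := 1782) (cnt := 2) (by norm_num) fun c hc => ?_
    interval_cases c
    exacts [five_cand0, five_cand1]
  letters := five_small.2.2.2.2.2

theorem eq5 {a b : List ℕ} (ha : ∀ s ∈ a, s < 19) (hb : ∀ s ∈ b, s < 19) (h : eqFive a b = true) :
    evalW gen5 a = evalW gen5 b :=
  eq_of_eqOn coded5 base5 ha hb h

theorem eqFive_of_eq {a b : List ℕ} (ha : ∀ s ∈ a, s < 19) (hb : ∀ s ∈ b, s < 19)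
    (h : evalW gen5 a = evalW gen5 b) : eqFive a b = true :=
  OutTab.eqOn_of_eq coded5 base5.1 ha hb h

/-- The first element of order five. -/
noncomputable def el5 : Spor.Suz := gen5 0

/-- The second element of order five. -/
noncomputable def el5' : Spor.Suz := gen5 1

theorem lt_append {k : ℕ} {a b : List ℕ} (ha : ∀ s ∈ a, s < k) (hb : ∀ s ∈ b, s < k) :
    ∀ s ∈ a ++ b, s < k := fun s hs => (List.mem_append.mp hs).elim (ha s) (hb s)

theorem lt_single {k s : ℕ} (h : s < k) : ∀ t ∈ [s], t < k := fun _ ht => (List.mem_singleton.mp ht) ▸ h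

theorem lt_replicate {k s : ℕ} (h : s < k) (n : ℕ) : ∀ t ∈ List.replicate n s, t < k := fun _ ht =>
  (List.eq_of_mem_replicate ht) ▸ h

theorem allB_lt {k : ℕ} {u : List ℕ} (h : allB (fun s => Nat.blt s k) u = true) : ∀ s ∈ u, s < k :=
  fun s hs => Nat.blt_eq.mp (allB_spec h s hs)

theorem pWord_lt (j : ℕ) : ∀ s ∈ pWord j, s < 19 :=
  lt_append (lt_replicate (by norm_num) _) (lt_replicate (by norm_num) _)

theorem eval_single {H : Type*} [Group H] (g : ℕ → H) (s : ℕ) : evalW g [s] = g s := by simp [evalW]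

theorem el5_pow : el5 ^ 5 = 1 := by
  have := eq5 (lt_replicate (by norm_num) _) (by simp) five_small.1
  rwa [evalW_replicate] at this

theorem el5'_pow : el5' ^ 5 = 1 := by
  have := eq5 (lt_replicate (by norm_num) _) (by simp) five_small.2.1
  rwa [evalW_replicate] at this

theorem el5_ne : el5 ≠ 1 := fun h => by
  have := eqFive_of_eq (a := [0]) (b := []) (lt_single (by norm_num)) (by simp)
    (by rw [eval_single]; exact h)
  rw [five_small.2.2.1] at this
  exact Bool.noConfusion this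

theorem el5_comm : Commute el5 el5' := by
  have := eq5 (a := [0, 1]) (b := [1, 0]) (by simp) (by simp) five_small.2.2.2.1
  simp only [evalW, List.map_cons, List.map_nil, List.prod_cons, List.prod_nil, mul_one] at this
  exact this

/-- `5 × 5` inside. -/
noncomputable def fiveHom : Multiplicative (ZMod 5) × Multiplicative (ZMod 5) →* Spor.Suz :=
  MonoidHom.noncommCoprod (powHom el5 el5_pow) (powHom el5' el5'_pow) fun _ _ => el5_comm.pow_pow _ _

/-- The standard Sylow 5-subgroup. -/
noncomputable def P0 : Subgroup Spor.Suz := fiveHom.range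

theorem evalW_pWord (j : ℕ) : evalW gen5 (pWord j) = el5 ^ (j / 5) * el5' ^ (j % 5) := by
  rw [pWord, evalW_append, evalW_replicate, evalW_replicate]
  rfl

theorem mem_P0 {g : Spor.Suz} : g ∈ P0 ↔ ∃ j < 25, g = evalW gen5 (pWord j) := by
  constructor
  · rintro ⟨⟨a, b⟩, rfl⟩
    have ha := ZMod.val_lt (Multiplicative.toAdd a)
    have hb := ZMod.val_lt (Multiplicative.toAdd b)
    refine ⟨5 * (Multiplicative.toAdd a).val + (Multiplicative.toAdd b).val, by omega, ?_⟩
    rw [evalW_pWord,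
      show (5 * (Multiplicative.toAdd a).val + (Multiplicative.toAdd b).val) / 5 =
        (Multiplicative.toAdd a).val by omega,
      show (5 * (Multiplicative.toAdd a).val + (Multiplicative.toAdd b).val) % 5 =
        (Multiplicative.toAdd b).val by omega]
    rfl
  · rintro ⟨j, hj, rfl⟩
    rw [evalW_pWord]
    refine ⟨(Multiplicative.ofAdd ((j / 5 : ℕ) : ZMod 5), Multiplicative.ofAdd ((j % 5 : ℕ) : ZMod 5)), ?_⟩
    show el5 ^ ((j / 5 : ℕ) : ZMod 5).val * el5' ^ ((j % 5 : ℕ) : ZMod 5).val = _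
    rw [ZMod.val_cast_of_lt (by omega), ZMod.val_cast_of_lt (by omega)]

theorem el5_mem : el5 ∈ P0 := mem_P0.mpr ⟨5, by norm_num, by simp [evalW_pWord]⟩

theorem el5'_mem : el5' ∈ P0 := mem_P0.mpr ⟨1, by norm_num, by simp [evalW_pWord]⟩

theorem P0_comm {a b : Spor.Suz} (ha : a ∈ P0) (hb : b ∈ P0) : a * b = b * a := by
  obtain ⟨x, rfl⟩ := ha
  obtain ⟨y, rfl⟩ := hb
  rw [← map_mul, mul_comm, map_mul]

theorem pWord_inj {i j : ℕ} (hi : i < 25) (hj : j < 25)
    (h : evalW gen5 (pWord i) = evalW gen5 (pWord j)) : i = j :=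
  congrArg Fin.val (five_small.2.2.2.2.1 ⟨i, hi⟩ ⟨j, hj⟩ (eqFive_of_eq (pWord_lt i) (pWord_lt j) h))

theorem pWord_zero : evalW gen5 (pWord 0) = 1 := by simp [evalW_pWord]

theorem card_P0 : Nat.card P0 = 25 := by
  have := SuzOut.finite_suz
  let f : Fin 25 → P0 := fun j => ⟨evalW gen5 (pWord j), mem_P0.mpr ⟨j, j.2, rfl⟩⟩
  rw [← Nat.card_congr (Equiv.ofBijective f ⟨fun i j h => Fin.ext (pWord_inj i.2 j.2 (congrArg Subtype.val h)),
    fun x => by
      obtain ⟨j, hj, h⟩ := mem_P0.mp x.2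
      exact ⟨⟨j, hj⟩, Subtype.ext h.symm⟩⟩), Nat.card_fin]

theorem exists_sylow_five [Fact (Nat.Prime 5)] :
    ∃ P : Sylow 5 Spor.Suz, (P : Subgroup Spor.Suz) = P0 := by
  have := SuzOut.finite_suz
  refine ⟨Sylow.ofCard P0 ?_, rfl⟩
  rw [card_P0, SuzOut.card_suz, show (448345497600 : ℕ) = 5 ^ 2 * 17933819904 by norm_num,
    Nat.factorization_mul (by norm_num) (by norm_num), Finsupp.add_apply,
    Nat.Prime.factorization_pow (by norm_num), Finsupp.single_eq_same,
    Nat.factorization_eq_zero_of_not_dvd (by norm_num)]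
  norm_num

theorem intoP_iff {u : List ℕ} (hu : ∀ s ∈ u, s < 19) {s : ℕ} (hs : s < 19) :
    intoP u s = true ↔ evalW gen5 u * gen5 s * (evalW gen5 u)⁻¹ ∈ P0 := by
  rw [intoP, List.any_eq_true, mem_P0]
  constructor
  · rintro ⟨j, hj, h⟩
    refine ⟨j, List.mem_range.mp hj, ?_⟩
    have := eq5 (lt_append hu (lt_single hs)) (lt_append (pWord_lt j) hu) h
    rw [evalW_append, evalW_append, eval_single] at this
    rw [this, mul_inv_cancel_right]
  · rintro ⟨j, hj, h⟩
    refine ⟨j, List.mem_range.mpr hj, eqFive_of_eq (lt_append hu (lt_single hs))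
      (lt_append (pWord_lt j) hu) ?_⟩
    rw [evalW_append, evalW_append, eval_single, ← h, inv_mul_cancel_right]

theorem mem_normalizer_P0 {g : Spor.Suz} (h0 : g * el5 * g⁻¹ ∈ P0) (h1 : g * el5' * g⁻¹ ∈ P0) :
    g ∈ normalizer (P0 : Set Spor.Suz) := by
  have := SuzOut.finite_suz
  refine mem_normalizer_fintype fun y hy => ?_
  obtain ⟨j, -, rfl⟩ := mem_P0.mp hy
  rw [evalW_pWord, show g * (el5 ^ (j / 5) * el5' ^ (j % 5)) * g⁻¹ =
    (g * el5 ^ (j / 5) * g⁻¹) * (g * el5' ^ (j % 5) * g⁻¹) by group, ← conj_pow, ← conj_pow]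
  exact mul_mem (pow_mem h0 _) (pow_mem h1 _)

theorem conj_mem_P0 {g y : Spor.Suz} (hg : g ∈ normalizer (P0 : Set Spor.Suz)) (hy : y ∈ P0) :
    g * y * g⁻¹ ∈ P0 := (mem_normalizer_iff.mp hg y).mp hy

/-- The listed elements normalising the subgroup and centralising the first element. -/
noncomputable def repEl (r : ℕ) : Spor.Suz := evalW gen5 (Data.reps.getD r [])

theorem rep_spec {r : ℕ} (hr : r < 50) :
    repEl r * el5 = el5 * repEl r ∧ repEl r ∈ normalizer (P0 : Set Spor.Suz) ∧
      ∀ s ∈ Data.reps.getD r [], s < 19 := by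
  have h := allBelow_eq_true.mp five_reps.1 r hr
  simp only [repB, forceL_eq, Bool.and_eq_true] at h
  have hu := allB_lt h.1.1
  have e : repEl r * el5 = el5 * repEl r := by
    have := eq5 (lt_append hu (lt_single (by norm_num)))
      (b := 0 :: Data.reps.getD r []) (lt_append (lt_single (by norm_num)) hu) h.1.2
    rw [evalW_append, eval_single, evalW_cons] at this
    exact this
  refine ⟨e, mem_normalizer_P0 ?_ ((intoP_iff hu (by norm_num)).mp h.2), hu⟩
  rw [e, mul_inv_cancel_right]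
  exact el5_mem

theorem rep_inj {a b : ℕ} (ha : a < 50) (hb : b < 50) (h : repEl a = repEl b) : a = b := by
  by_contra hne
  rcases Nat.lt_or_gt_of_ne hne with hlt | hlt
  · have := allBelow_eq_true.mp (allBelow_eq_true.mp five_reps.2 b hb) a hlt
    rw [eqFive_of_eq (rep_spec hb).2.2 (rep_spec ha).2.2 h.symm] at this
    exact Bool.noConfusion this
  · have := allBelow_eq_true.mp (allBelow_eq_true.mp five_reps.2 a ha) b hlt
    rw [eqFive_of_eq (rep_spec ha).2.2 (rep_spec hb).2.2 h] at this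
    exact Bool.noConfusion this

theorem rep_surj {g : Spor.Suz} (hn : g ∈ normalizer (P0 : Set Spor.Suz)) (hc : g * el5 = el5 * g) :
    ∃ r < 50, g = repEl r := by
  have := SuzOut.finite_suz
  obtain ⟨j, hj, rfl⟩ := OutTab.centraliser_cases cent_checks5 coded5 base5 five_iv five_wf.1
    five_wf.2.1 five_distinct (five_wf.2.2.1.trans SuzOut.card_suz.symm) hc
  set u := Data.els.get [] j with hu
  have hul : ∀ s ∈ u, s < 19 := allB_lt (allBelow_eq_true.mp five_small.2.2.2.2.2 j hj)
  have hk := allBelow_eq_true.mp five_kinds j hj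
  rw [fiveKindB, forceN_eq, forceL_eq, ← hu] at hk
  cases hc : Nat.beq (Data.kinds.get 0 j) 60
  · rw [hc, cond_false, Bool.and_eq_true, Nat.blt_eq] at hk
    exact ⟨_, hk.1, eq5 hul (rep_spec hk.1).2.2 hk.2⟩
  · rw [hc, cond_true, (intoP_iff hul (by norm_num)).mpr (conj_mem_P0 hn el5'_mem)] at hk
    exact Bool.noConfusion hk

end Cfsg.Agent.SuzFacts
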